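import Cfsg.Prelude.Def_LocalEven
import Cfsg.Agent.PLocalB.CenterThompson

/-! Glauberman's `ZJ` theorem for strongly closed subgroups (after `PLocalB.ZJ`). -/

set_option autoImplicit false
set_option linter.style.haveILetI false

open scoped commutatorElement

namespace Cfsg.Agent.LocalEvenD

open Cfsg.Agent.PLocalB

variable {G : Type*} [Group G]

theorem isPStableOn_of_normalizerPStable [Finite G] {p : ℕ} [Fact p.Prime]
    (hst : Cfsg.IsNormalizerPStable p G) (B : Subgroup G) [B.Normal] (hB : IsPGroup p B) :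
    Cfsg.IsPStableOn p B := by
  intro a ha
  have haN : a ∈ Subgroup.normalizer (B : Set G) := by
    rw [Subgroup.normalizer_eq_top B]; exact Subgroup.mem_top a
  have h := hst B hB a haN ha
  let f : ↥(Subgroup.normalizer (B : Set G)) ⧸
      (Subgroup.centralizer (B : Set G)).subgroupOf (Subgroup.normalizer (B : Set G)) →*
      G ⧸ Subgroup.centralizer (B : Set G) :=
    QuotientGroup.map _ _ (Subgroup.normalizer (B : Set G)).subtype fun x hx => hx
  have hf : Function.Surjective f := by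
    intro y
    obtain ⟨g, rfl⟩ := QuotientGroup.mk_surjective y
    exact ⟨QuotientGroup.mk ⟨g, by rw [Subgroup.normalizer_eq_top B]; exact Subgroup.mem_top g⟩, rfl⟩
  have hle : (Cfsg.pCore p (↥(Subgroup.normalizer (B : Set G)) ⧸
      (Subgroup.centralizer (B : Set G)).subgroupOf (Subgroup.normalizer (B : Set G)))).map f ≤
      Cfsg.pCore p (G ⧸ Subgroup.centralizer (B : Set G)) :=
    Cfsg.Agent.Thompson.le_pCore (Subgroup.Normal.map inferInstance f hf)
      (Cfsg.Agent.Thompson.isPGroup_pCore.map f)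
  exact hle ⟨_, h, rfl⟩

/-- A quadratic subgroup of `S` lies in the preimage of `O_p (G / C(B))`. -/
theorem le_comap_pCore_of_quadratic {p : ℕ} {B S : Subgroup G} [B.Normal]
    (hst : ∀ a ∈ S, ⁅⁅B, Subgroup.zpowers a⁆, Subgroup.zpowers a⁆ = ⊥ →
      (QuotientGroup.mk a : G ⧸ Subgroup.centralizer (B : Set G)) ∈
        pCore p (G ⧸ Subgroup.centralizer (B : Set G)))
    (A : Subgroup G) (hAS : A ≤ S) (hq : ⁅⁅B, A⁆, A⁆ = ⊥) :
    A ≤ (pCore p (G ⧸ Subgroup.centralizer (B : Set G))).comap (QuotientGroup.mk' _) := by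
  intro a ha
  have hle : Subgroup.zpowers a ≤ A := Subgroup.zpowers_le.mpr ha
  refine hst a (hAS ha) (le_bot_iff.mp ?_)
  rw [← hq]
  exact Subgroup.commutator_mono (Subgroup.commutator_mono le_rfl hle) hle

/-- **Glauberman's ZJ theorem** for a strongly closed subgroup `D₀` of a Sylow subgroup. -/
theorem core_normal_of_stronglyClosed [Finite G] (F : AbFamily G) {p : ℕ} [Fact p.Prime] (hp : p ≠ 2)
    (hc : Subgroup.centralizer (pCore p G : Set G) ≤ pCore p G)
    (S : Sylow p G)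
    (hst : ∀ (B : Subgroup G) [B.Normal], IsPGroup p B → ∀ a ∈ (S : Subgroup G),
      ⁅⁅B, Subgroup.zpowers a⁆, Subgroup.zpowers a⁆ = ⊥ →
        (QuotientGroup.mk a : G ⧸ Subgroup.centralizer (B : Set G)) ∈
          pCore p (G ⧸ Subgroup.centralizer (B : Set G))) {D₀ : Subgroup G} (hD₀ : D₀ ≤ (S : Subgroup G))
    (hsc : ∀ d ∈ D₀, ∀ g : G, g * d * g⁻¹ ∈ (S : Subgroup G) → g * d * g⁻¹ ∈ D₀) :
    (F.core D₀).Normal := by
  classical
  set Z := F.core D₀ with hZ
  have hZS : Z ≤ (S : Subgroup G) := (F.core_le _).trans hD₀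
  have hSD : (S : Subgroup G) ≤ Subgroup.normalizer (D₀ : Set G) := fun s hs =>
    mem_normalizer_of_conj_mem D₀ s fun d hd =>
      hsc d hd s (mul_mem (mul_mem hs (hD₀ hd)) (inv_mem hs))
  have hSZ : (S : Subgroup G) ≤ Subgroup.normalizer (Z : Set G) :=
    hSD.trans (F.normalizer_le_core _)
  have hZc : IsMulCommutative Z := F.core_comm _
  set Q := pCore p G with hQdef
  have hQS : Q ≤ (S : Subgroup G) := Cfsg.Agent.Thompson.pCore_le_sylow S
  have hQp : IsPGroup p Q := Cfsg.Agent.Thompson.isPGroup_pCore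
  -- `Z ≤ O_p(G)`
  have hZQ : Z ≤ Q := by
    have hq : ⁅⁅Q, Z⁆, Z⁆ = ⊥ := by
      have h1 : ⁅Q, Z⁆ ≤ Z := Subgroup.le_normalizer_iff_commutator_le_right.mp (hQS.trans hSZ)
      refine le_bot_iff.mp ((Subgroup.commutator_mono h1 le_rfl).trans ?_)
      rw [le_bot_iff, Subgroup.commutator_eq_bot_iff_le_centralizer]
      exact Subgroup.le_centralizer_iff_isMulCommutative.mpr hZc
    refine (le_comap_pCore_of_quadratic (hst Q hQp) Z hZS hq).trans ?_
    refine Cfsg.Agent.Thompson.le_pCore inferInstance ?_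
    refine IsPGroup.comap_of_ker_isPGroup Cfsg.Agent.Thompson.isPGroup_pCore _ ?_
    rw [QuotientGroup.ker_mk']
    exact hQp.to_le hc
  suffices H : ∀ B : Subgroup G, B.Normal → B ≤ Q → (B ⊓ Z).Normal by
    have := H Q inferInstance le_rfl
    rwa [inf_eq_right.mpr hZQ] at this
  intro B
  induction hn : Nat.card B using Nat.strong_induction_on generalizing B with
  | _ n ih =>
  intro hB hBQ
  subst hn
  set Z₁ := B ⊓ Z with hZ₁
  set B₁ := Subgroup.normalClosure (Z₁ : Set G) with hB₁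
  have hB₁B : B₁ ≤ B := Subgroup.normalClosure_le_normal (Set.Subset.trans (by simp [hZ₁]) (le_refl _))
  by_cases hlt : B₁ < B
  · have hcard : Nat.card B₁ < Nat.card B := by
      by_contra h
      exact hlt.ne (Subgroup.eq_of_le_of_card_ge hlt.le (Nat.not_lt.mp h))
    have := ih _ hcard B₁ rfl Subgroup.normalClosure_normal (hlt.le.trans hBQ)
    rwa [show B₁ ⊓ Z = Z₁ from le_antisymm (inf_le_inf_right _ hB₁B)
      (le_inf Subgroup.le_normalClosure inf_le_right)] at this
  have hBeq : B₁ = B := eq_of_le_of_not_lt hB₁B hlt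
  by_cases hbot : B = ⊥
  · rw [hZ₁, hbot, bot_inf_eq]; infer_instance
  by_contra hnn
  haveI := hB
  have hBp : IsPGroup p B := hQp.to_le hBQ
  have hBS : B ≤ (S : Subgroup G) := hBQ.trans hQS
  have hB'lt : ⁅B, B⁆ < B := by
    haveI : Nontrivial B := Subgroup.nontrivial_iff_ne_bot B |>.mpr hbot
    haveI := hBp.isNilpotent
    have h1 : commutator B < ⊤ := Group.IsSolvable.commutator_lt_top_of_nontrivial B
    have h2 := Subgroup.map_lt_map_iff_of_injective B.subtype_injective |>.mpr h1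
    rwa [← MonoidHom.range_eq_map, Subgroup.range_subtype, Subgroup.map_subtype_commutator] at h2
  have hB'Z : ⁅B, B⁆ ≤ Z := by
    have hcard : Nat.card ↥⁅B, B⁆ < Nat.card B := by
      by_contra h
      exact hB'lt.ne (Subgroup.eq_of_le_of_card_ge hB'lt.le (Nat.not_lt.mp h))
    have hN : (⁅B, B⁆ ⊓ Z).Normal := ih _ hcard ⁅B, B⁆ rfl inferInstance (hB'lt.le.trans hBQ)
    -- `[Z₁, B] ≤ B' ⊓ Z`, a normal subgroup, so `B' = [Z₁^G, B] ≤ Z`
    let T : Subgroup G := (Subgroup.centralizer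
      ((B.map (QuotientGroup.mk' (⁅B, B⁆ ⊓ Z)) : Subgroup _) : Set _)).comap
        (QuotientGroup.mk' (⁅B, B⁆ ⊓ Z))
    have hT : ∀ x, x ∈ T ↔ ∀ y ∈ B, ⁅x, y⁆ ∈ ⁅B, B⁆ ⊓ Z := by
      intro x
      simp only [T, Subgroup.mem_comap, Subgroup.mem_centralizer_iff,
        Subgroup.coe_map, Set.forall_mem_image]
      refine forall₂_congr fun y _ => ?_
      rw [← QuotientGroup.eq_one_iff, eq_comm, commutatorElement_def]
      simp only [QuotientGroup.mk'_apply, QuotientGroup.mk_mul, QuotientGroup.mk_inv]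
      rw [mul_inv_eq_one, mul_inv_eq_iff_eq_mul]
    haveI : T.Normal := by
      haveI : (B.map (QuotientGroup.mk' (⁅B, B⁆ ⊓ Z))).Normal :=
        Subgroup.Normal.map hB _ (QuotientGroup.mk'_surjective _)
      infer_instance
    have hZT : Z₁ ≤ T := by
      intro x hx
      rw [hT]
      intro y hy
      refine ⟨Subgroup.commutator_mem_commutator hx.1 hy, ?_⟩
      have h1 := (Subgroup.mem_normalizer_iff.mp (hSZ (hBS hy)) x⁻¹).mp (inv_mem hx.2)
      rw [commutatorElement_def, mul_assoc x y, mul_assoc x]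
      exact mul_mem hx.2 h1
    have hBT : B ≤ T := hBeq ▸ Subgroup.normalClosure_le_normal hZT
    rw [Subgroup.commutator_le]
    exact fun x hx y hy => ((hT x).mp (hBT hx) y hy).2
  have hB2 : p = 2 → IsMulCommutative B := fun h => absurd h hp
  -- the subgroup `D`
  set D := (pCore p (G ⧸ Subgroup.centralizer (B : Set G))).comap
    (QuotientGroup.mk' (Subgroup.centralizer (B : Set G))) with hD
  have hCD : Subgroup.centralizer (B : Set G) ≤ D := fun x hx => by
    simp [hD, Subgroup.mem_comap, (QuotientGroup.eq_one_iff x).mpr hx]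
  let S₁ : Subgroup G := (S : Subgroup G) ⊓ D
  have hDgen : D = S₁ ⊔ Subgroup.centralizer (B : Set G) := by
    apply le_antisymm _ (sup_le inf_le_right hCD)
    have hmap : (S : Subgroup G).map (QuotientGroup.mk' (Subgroup.centralizer (B : Set G))) =
        (S.mapSurjective (QuotientGroup.mk'_surjective (Subgroup.centralizer (B : Set G))) :
          Subgroup _) := rfl
    intro x hx
    have h1 : QuotientGroup.mk' (Subgroup.centralizer (B : Set G)) x ∈
        (S : Subgroup G).map (QuotientGroup.mk' _) := by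
      rw [hmap]; exact Cfsg.Agent.Thompson.pCore_le_sylow _ hx
    obtain ⟨s, hs, hsx⟩ := h1
    have hcm : s⁻¹ * x ∈ Subgroup.centralizer (B : Set G) := QuotientGroup.eq.mp hsx
    have hsD : s ∈ D := by
      rw [← mul_inv_cancel_right s (s⁻¹ * x)]
      simpa [mul_assoc] using mul_mem hx (inv_mem (hCD hcm))
    rw [← mul_inv_cancel_left s x]
    exact Subgroup.mul_mem_sup ⟨hs, hsD⟩ hcm
  have hDZ : D ≤ Subgroup.normalizer (Z₁ : Set G) := by
    rw [hDgen]
    refine sup_le (fun s hs => ?_) fun c hcm => ?_ <;> apply mem_normalizer_of_conj_mem <;>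
      intro x hx
    · exact ⟨hB.conj_mem x hx.1 s, (Subgroup.mem_normalizer_iff.mp (hSZ hs.1) x).mp hx.2⟩
    · rwa [← Subgroup.mem_centralizer_iff.mp hcm x hx.1, mul_inv_cancel_right]
  let D₁ : Subgroup G := D₀ ⊓ D
  have hquadD : ∀ A : Subgroup G, F.IsMax D₀ A →
      B ≤ Subgroup.normalizer (A : Set G) → A ≤ D₁ := by
    intro A hA hBN
    refine le_inf hA.1
      (le_comap_pCore_of_quadratic (hst B hBp) A (hA.1.trans hD₀) (le_bot_iff.mp ?_))
    refine (Subgroup.commutator_mono (Subgroup.le_normalizer_iff_commutator_le_right.mp hBN) le_rfl).trans ?_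
    rw [le_bot_iff, Subgroup.commutator_eq_bot_iff_le_centralizer]
    exact Subgroup.le_centralizer_iff_isMulCommutative.mpr (F.comm A hA.2.1)
  -- `G = D N(D₁)`, so `B ≤ core D₁` once some member of largest order lies in `D₁`
  have hkey : ∀ A' : Subgroup G, F.IsMax D₀ A' → A' ≤ D₁ → B ≤ A' := by
    intro A' hA' hle
    have hmax : F.IsMax D₁ A' :=
      ⟨hle, hA'.2.1, fun E hE hgood => hA'.2.2 E (hE.trans inf_le_left) hgood⟩
    have hZW : Z ≤ F.core D₁ := le_sInf fun E hE => F.core_le_of_isMax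
      ⟨hE.1.trans inf_le_left, hE.2.1, fun E' h1 h2 =>
        (hA'.2.2 E' h1 h2).trans (hE.2.2 A' hle hA'.2.1)⟩
    have hfr : Subgroup.normalizer (D₁ : Set G) ⊔ D = ⊤ := by
      refine eq_top_iff.mpr ((normalizer_inf_sup_eq_top S D).symm.le.trans (sup_le_sup_right ?_ D))
      intro g hg
      refine mem_normalizer_of_conj_mem _ g fun d hd => ?_
      have h1 := (Subgroup.mem_normalizer_iff.mp hg d).mp ⟨hD₀ hd.1, hd.2⟩
      exact ⟨hsc d hd.1 g h1.1, h1.2⟩
    refine le_trans ?_ (F.core_le_of_isMax hmax)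
    conv_lhs => rw [← hBeq]
    rw [hB₁, Subgroup.normalClosure, Subgroup.closure_le]
    intro x hx
    obtain ⟨z, hz, hzx⟩ := Group.mem_conjugatesOfSet_iff.mp hx
    obtain ⟨g, rfl⟩ := isConj_iff.mp hzx
    obtain ⟨m, hm, d, hd, rfl⟩ := Subgroup.mem_sup_of_normal_right.mp
      (hfr ▸ Subgroup.mem_top g : g ∈ Subgroup.normalizer (D₁ : Set G) ⊔ D)
    have h1 : d * z * d⁻¹ ∈ F.core D₁ :=
      hZW ((Subgroup.mem_normalizer_iff.mp (hDZ hd) z).mp hz).2
    have := (Subgroup.mem_normalizer_iff.mp (F.normalizer_le_core _ hm) _).mp h1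
    simpa [mul_assoc] using this
  by_cases hall : ∀ A, F.IsMax D₀ A → A ≤ D₁
  · obtain ⟨A, hA⟩ := F.exists_isMax D₀
    have hB₀ : ∀ A, F.IsMax D₀ A → B ≤ A := fun A h => hkey A h (hall A h)
    apply hnn
    have : Z₁ = B := inf_eq_left.mpr (le_sInf hB₀)
    rw [hZ₁] at this ⊢
    rw [this]; exact hB
  push Not at hall
  obtain ⟨A, ⟨hA, hAnle⟩, hAmax⟩ := Set.exists_max_image
    {A | F.IsMax D₀ A ∧ ¬ A ≤ D₁} (fun A => Nat.card ↥(A ⊓ B)) (Set.toFinite _)
    (hall.imp fun A h => h)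
  have hnotN : ¬ B ≤ Subgroup.normalizer (A : Set G) := fun h => hAnle (hquadD A hA h)
  obtain ⟨A', -, hcard, hA'c, hle', -, hlt1, hlt2, -, -, hexp⟩ := replacement_in (S : Subgroup G) B A S.2 hBS
    (by rw [Subgroup.normalizer_eq_top B]; exact le_top) hB2 (hA.1.trans hD₀) (F.comm A hA.2.1)
    (hB'Z.trans (F.core_le_of_isMax hA)) hnotN
  have hA'D : A' ≤ D₀ := hle'.trans (sup_le hA.1 ((Subgroup.commutator_mono le_rfl hA.1).trans
    (Subgroup.le_normalizer_iff_commutator_le_right.mp (hBS.trans hSD))))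
  have hA' : F.IsMax D₀ A' :=
    ⟨hA'D, F.of_exponent A A' hA.2.1 hA'c (hexp hp), fun E h1 h2 => hcard ▸ hA.2.2 E h1 h2⟩
  have hA'D₁ : A' ≤ D₁ := by
    by_contra h
    have h1 := hAmax A' ⟨hA', h⟩
    exact absurd (Subgroup.eq_of_le_of_card_ge hlt1.le h1) hlt1.ne
  exact hlt2.ne (inf_eq_right.mpr (hkey A' hA' hA'D₁))

end Cfsg.Agent.LocalEvenD
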