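import Mathlib.GroupTheory.Sylow
import Mathlib.GroupTheory.Nilpotent
import Mathlib.Data.Fin.Tuple.Basic
import Cfsg.Prelude.Def_SylowChains

set_option autoImplicit false

namespace Cfsg.Agent.LocalEvenD

variable {G : Type*} [Group G] {p : ℕ}

/-- The classical condition on a strongly p-embedded subgroup (without properness). -/
def SPCond (p : ℕ) (H : Subgroup G) : Prop :=
  ∀ g : G, g ∉ H → ¬ p ∣ Nat.card ↥(H ⊓ H.map (MulAut.conj g).toMonoidHom)

lemma dvd_card_of_le [Finite G] [Fact p.Prime] {P K : Subgroup G} (hP : IsPGroup p P) (h1 : P ≠ ⊥)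
    (hle : P ≤ K) : p ∣ Nat.card K := by
  obtain ⟨n, hn⟩ := IsPGroup.iff_card.mp hP
  refine dvd_trans ?_ (Subgroup.card_dvd_of_le hle)
  rw [hn]
  refine dvd_pow_self p ?_
  rintro rfl
  rw [pow_zero, Subgroup.card_eq_one] at hn
  exact h1 hn

lemma SPCond.normalizer_le [Finite G] [Fact p.Prime] {H P : Subgroup G} (h : SPCond p H)
    (hP : IsPGroup p P) (h1 : P ≠ ⊥) (hle : P ≤ H) : Subgroup.normalizer (P : Set G) ≤ H := by
  intro g hg
  by_contra hgH
  refine h g hgH (dvd_card_of_le hP h1 (le_inf hle ?_))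
  rw [← Subgroup.mem_normalizer_iff_map_conj_eq.mp hg]
  exact Subgroup.map_mono hle

lemma SPCond.exists_sylow_le [Finite G] [hp : Fact p.Prime] {H : Subgroup G} (h : SPCond p H)
    (hpH : p ∣ Nat.card H) : ∃ S : Sylow p G, (S : Subgroup G) ≤ H := by
  obtain ⟨P⟩ := (inferInstance : Nonempty (Sylow p H))
  set P0 := (P : Subgroup H).map H.subtype with hP0
  have hP0p : IsPGroup p P0 := P.2.map _
  have hP01 : P0 ≠ ⊥ := by
    rw [hP0, Ne, Subgroup.map_eq_bot_iff_of_injective _ H.subtype_injective]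
    exact P.ne_bot_of_dvd_card hpH
  obtain ⟨S, hS⟩ := hP0p.exists_le_sylow
  refine ⟨S, ?_⟩
  rcases eq_or_lt_of_le hS with he | hlt
  · rw [← he]; exact Subgroup.map_subtype_le _
  exfalso
  have hnt : (P0.subgroupOf S) < ⊤ := by
    rw [lt_top_iff_ne_top, Ne, Subgroup.subgroupOf_eq_top]
    exact fun hle => absurd (le_antisymm hS hle) hlt.ne
  haveI : Group.IsNilpotent ↥(S : Subgroup G) := IsPGroup.isNilpotent (p := p) S.2
  have hnc : NormalizerCondition ↥(S : Subgroup G) := Group.normalizerCondition_of_isNilpotent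
  obtain ⟨x, hx, hxn⟩ := SetLike.exists_of_lt (hnc _ hnt)
  have hxN : (x : G) ∈ Subgroup.normalizer (P0 : Set G) := by
    rw [Subgroup.mem_normalizer_iff]
    intro y
    constructor
    · intro hy
      exact (Subgroup.mem_normalizer_iff.mp hx ⟨y, hS hy⟩).mp hy
    · intro hy
      have hyS : y ∈ (S : Subgroup G) := by
        have := (S : Subgroup G).mul_mem ((S : Subgroup G).mul_mem ((S : Subgroup G).inv_mem x.2) (hS hy)) x.2
        simpa [mul_assoc] using this
      exact (Subgroup.mem_normalizer_iff.mp hx ⟨y, hyS⟩).mpr hy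
  have hxH : (x : G) ∈ H := h.normalizer_le hP0p hP01 (Subgroup.map_subtype_le _) hxN
  -- P0 with x is a p-subgroup of H
  have hle : P0 ⊔ Subgroup.zpowers (x : G) ≤ H :=
    sup_le (Subgroup.map_subtype_le _) (Subgroup.zpowers_le.mpr hxH)
  have hleS : P0 ⊔ Subgroup.zpowers (x : G) ≤ (S : Subgroup G) :=
    sup_le hS (Subgroup.zpowers_le.mpr x.2)
  have hq : IsPGroup p ((P0 ⊔ Subgroup.zpowers (x : G)).subgroupOf H) :=
    (S.2.to_le hleS).of_equiv (Subgroup.subgroupOfEquivOfLe hle).symm
  have heq := P.3 hq (by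
    intro y hy
    exact Subgroup.mem_sup_left ⟨y, hy, rfl⟩)
  have hmem : (⟨(x : G), hxH⟩ : H) ∈ (P : Subgroup H) :=
    heq ▸ (Subgroup.mem_sup_right (Subgroup.mem_zpowers _) : (x : G) ∈ P0 ⊔ Subgroup.zpowers (x : G))
  exact hxn ⟨⟨(x : G), hxH⟩, hmem, rfl⟩

lemma sylow_conj [Finite G] [Fact p.Prime] (S T : Sylow p G) :
    ∃ g : G, (T : Subgroup G) = (S : Subgroup G).map (MulAut.conj g).toMonoidHom := by
  obtain ⟨g, rfl⟩ := MulAction.exists_smul_eq G S T
  exact ⟨g, by rw [Sylow.coe_subgroup_smul]; rfl⟩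

lemma SPCond.sylow_le_of_meet [Finite G] [Fact p.Prime] {H : Subgroup G} (h : SPCond p H)
    {S T : Sylow p G} (hS : (S : Subgroup G) ≤ H) (hm : (S : Subgroup G) ⊓ (T : Subgroup G) ≠ ⊥) :
    (T : Subgroup G) ≤ H := by
  obtain ⟨g, hg⟩ := sylow_conj S T
  have hgH : g ∈ H := by
    by_contra hgH
    refine h g hgH (dvd_card_of_le (S.2.to_le inf_le_left) hm ?_)
    exact inf_le_inf hS (hg.le.trans (Subgroup.map_mono hS))
  rw [hg]
  refine (Subgroup.map_mono hS).trans ?_
  exact (Subgroup.mem_normalizer_iff_map_conj_eq.mp (Subgroup.le_normalizer hgH)).le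

/-- A Sylow subgroup meets a normal subgroup of order divisible by `p` nontrivially. -/
lemma sylow_inf_normal_ne_bot [Finite G] [Fact p.Prime] (S : Sylow p G) (N : Subgroup G) [N.Normal]
    (hN : p ∣ Nat.card N) : (S : Subgroup G) ⊓ N ≠ ⊥ := by
  obtain ⟨x, hx⟩ := exists_prime_orderOf_dvd_card' (G := N) p hN
  have hxo : orderOf (x : G) = p := (Subgroup.orderOf_coe x).trans hx
  have hpg : IsPGroup p (Subgroup.zpowers (x : G)) :=
    IsPGroup.of_card (n := 1) (by rw [Nat.card_zpowers, hxo, pow_one])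
  obtain ⟨T, hT⟩ := hpg.exists_le_sylow
  obtain ⟨g, hg⟩ := sylow_conj S T
  obtain ⟨y, hy, hyx⟩ := (hg ▸ hT (Subgroup.mem_zpowers _) :
    (x : G) ∈ (S : Subgroup G).map (MulAut.conj g).toMonoidHom)
  intro hb
  have hyN : y ∈ N := by
    have := ‹N.Normal›.conj_mem _ x.2 g⁻¹
    rw [← hyx] at this
    simpa [mul_assoc] using this
  have hy1 : y = 1 := (Subgroup.eq_bot_iff_forall _).mp hb y ⟨hy, hyN⟩
  rw [hy1, map_one] at hyx
  rw [← hyx, orderOf_one] at hxo
  exact (Fact.out : p.Prime).one_lt.ne hxo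

/-- Frattini argument with the intersection of an ambient Sylow subgroup. -/
lemma frattini_inf [Finite G] [Fact p.Prime] (S : Sylow p G) (N : Subgroup G) [N.Normal] :
    N ⊔ Subgroup.normalizer (((S : Subgroup G) ⊓ N : Subgroup G) : Set G) = ⊤ := by
  rw [eq_top_iff]
  intro g _
  obtain ⟨T, hT⟩ := (S.2.to_le (inf_le_left : (S : Subgroup G) ⊓ N ≤ S)).of_equiv
    (Subgroup.subgroupOfEquivOfLe (inf_le_right : (S : Subgroup G) ⊓ N ≤ N)).symm |>.exists_le_sylow
  have hTeq : (T : Subgroup N).map N.subtype = (S : Subgroup G) ⊓ N := by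
    have hge : (S : Subgroup G) ⊓ N ≤ (T : Subgroup N).map N.subtype :=
      fun y hy => ⟨⟨y, hy.2⟩, hT hy, rfl⟩
    obtain ⟨U, hU⟩ := (T.2.map N.subtype).exists_le_sylow
    obtain ⟨a, ha⟩ := sylow_conj S U
    refine (Subgroup.eq_of_le_of_card_ge hge ?_).symm
    have hle : (T : Subgroup N).map N.subtype ≤
        ((S : Subgroup G) ⊓ N).map (MulAut.conj a).toMonoidHom := by
      rw [Subgroup.map_inf _ _ _ (MulAut.conj a).injective, ← ha,
        show N.map (MulAut.conj a).toMonoidHom = N from Subgroup.Normal.map_conj_eq N a]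
      exact le_inf hU (Subgroup.map_subtype_le _)
    exact (Subgroup.card_le_of_le hle).trans (Subgroup.card_map_of_injective (MulAut.conj a).injective).le
  have := Sylow.normalizer_sup_eq_top T
  rw [hTeq] at this
  rw [sup_comm, this]
  exact Subgroup.mem_top g

lemma SPCond.normal_sup_eq_top [Finite G] [Fact p.Prime] {H : Subgroup G} (h : SPCond p H)
    (hpH : p ∣ Nat.card H) (N : Subgroup G) [N.Normal] (hN : p ∣ Nat.card N) : N ⊔ H = ⊤ := by
  obtain ⟨S, hS⟩ := h.exists_sylow_le hpH
  rw [eq_top_iff, ← frattini_inf S N]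
  exact sup_le le_sup_left ((h.normalizer_le (S.2.to_le inf_le_left) (sylow_inf_normal_ne_bot S N hN)
    (inf_le_left.trans hS)).trans le_sup_right)

/-- Adjacency in the graph of Sylow subgroups. -/
def SylowMeet (p : ℕ) (S T : Sylow p G) : Prop :=
  S ≠ T ∧ (S : Subgroup G) ⊓ (T : Subgroup G) ≠ ⊥

lemma chainConnected_iff : Cfsg.IsSylowChainConnected p G ↔
    ∀ S T : Sylow p G, Relation.ReflTransGen (SylowMeet p) S T := by
  constructor
  · intro h S T
    obtain ⟨n, c, h0, hl, -, hstep⟩ := h S T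
    have key : ∀ i : Fin (n + 1), Relation.ReflTransGen (SylowMeet p) S (c i) := by
      intro i
      induction i using Fin.induction with
      | zero => rw [h0]
      | succ i ih => exact ih.tail (hstep i)
    exact hl ▸ key (Fin.last n)
  · intro h S T
    by_cases hm : (S : Subgroup G) ⊓ (T : Subgroup G) = ⊥
    · suffices H : ∀ U, Relation.ReflTransGen (SylowMeet p) S U → ∃ (n : ℕ) (c : Fin (n + 1) → Sylow p G),
          c 0 = S ∧ c (Fin.last n) = U ∧ ∀ i : Fin n, SylowMeet p (c i.castSucc) (c i.succ) by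
        obtain ⟨n, c, h0, hl, hs⟩ := H T (h S T)
        exact ⟨n, c, h0, hl, fun i => hm ▸ bot_le, hs⟩
      intro U hU
      induction hU with
      | refl => exact ⟨0, fun _ => S, rfl, rfl, fun i => i.elim0⟩
      | @tail b d _ hbd ih =>
        obtain ⟨n, c, h0, hl, hs⟩ := ih
        refine ⟨n + 1, Fin.snoc c d, ?_, Fin.snoc_last _ _, ?_⟩
        · rw [← Fin.castSucc_zero, Fin.snoc_castSucc, h0]
        · intro i
          refine Fin.lastCases ?_ (fun j => ?_) i
          · rw [Fin.snoc_castSucc, hl, Fin.succ_last, Fin.snoc_last]; exact hbd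
          · rw [Fin.snoc_castSucc, ← Fin.castSucc_succ, Fin.snoc_castSucc]; exact hs j
    · by_cases hst : S = T
      · subst hst
        exact ⟨0, fun _ => S, rfl, rfl, fun _ => inf_le_left, fun i => i.elim0⟩
      · refine ⟨1, ![S, T], rfl, rfl, fun i => ?_, fun i => ?_⟩
        · fin_cases i
          · exact inf_le_left
          · exact inf_le_right
        · fin_cases i
          exact ⟨hst, hm⟩

theorem not_chainConnected_iff [Finite G] [Fact p.Prime] :
    ¬ Cfsg.IsSylowChainConnected p G ↔ ∃ H : Subgroup G, H ≠ ⊤ ∧ p ∣ Nat.card H ∧ SPCond p H := by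
  rw [chainConnected_iff]
  constructor
  · intro hne
    push Not at hne
    obtain ⟨S, T, hST⟩ := hne
    have hsym : ∀ a b : Sylow p G, SylowMeet p a b → SylowMeet p b a :=
      fun a b hab => ⟨hab.1.symm, by rw [inf_comm]; exact hab.2⟩
    have hrsym : ∀ a b : Sylow p G, Relation.ReflTransGen (SylowMeet p) a b →
        Relation.ReflTransGen (SylowMeet p) b a := by
      intro a b hab
      induction hab with
      | refl => exact .refl
      | tail _ hcd ih => exact (Relation.ReflTransGen.single (hsym _ _ hcd)).trans ih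
    have hequi : ∀ (g : G) (a b : Sylow p G), Relation.ReflTransGen (SylowMeet p) a b →
        Relation.ReflTransGen (SylowMeet p) (g • a) (g • b) := by
      intro g a b hab
      refine hab.lift (fun x : Sylow p G => g • x) fun x y hxy => ⟨fun he => hxy.1 (smul_left_cancel g he), ?_⟩
      intro hb
      apply hxy.2
      change ((x : Subgroup G).map (MulAut.conj g).toMonoidHom) ⊓ ((y : Subgroup G).map (MulAut.conj g).toMonoidHom) = ⊥ at hb
      rwa [← Subgroup.map_inf _ _ _ (MulAut.conj g).injective,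
        Subgroup.map_eq_bot_iff_of_injective _ (MulAut.conj g).injective] at hb
    let H : Subgroup G :=
      { carrier := {g | Relation.ReflTransGen (SylowMeet p) S (g • S)}
        one_mem' := by show Relation.ReflTransGen (SylowMeet p) S ((1 : G) • S); rw [one_smul]
        mul_mem' := fun {a b} ha hb => by
          show Relation.ReflTransGen (SylowMeet p) S ((a * b) • S)
          rw [mul_smul]; exact Relation.ReflTransGen.trans ha (hequi a _ _ hb)
        inv_mem' := fun {a} ha => by
          show Relation.ReflTransGen (SylowMeet p) S (a⁻¹ • S)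
          have := hequi a⁻¹ _ _ ha
          rw [inv_smul_smul] at this
          exact hrsym _ _ this }
    have hSH : (S : Subgroup G) ≤ H := by
      intro s hs
      show Relation.ReflTransGen (SylowMeet p) S (s • S)
      rw [Sylow.smul_eq_iff_mem_normalizer.mpr (Subgroup.le_normalizer hs)]
    have hmeet : ∀ U : Sylow p G, (S : Subgroup G) ⊓ (U : Subgroup G) ≠ ⊥ →
        Relation.ReflTransGen (SylowMeet p) S U := by
      intro U hU
      by_cases he : S = U
      · rw [he]
      · exact .single ⟨he, hU⟩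
    have hS1 : (S : Subgroup G) ≠ ⊥ := by
      intro hb
      refine hST ?_
      obtain ⟨g, hg⟩ := sylow_conj S T
      have : T = S := Sylow.ext (by rw [hg, hb, Subgroup.map_bot])
      rw [this]
    refine ⟨H, ?_, dvd_card_of_le S.2 hS1 hSH, ?_⟩
    · intro hH
      obtain ⟨g, hg⟩ := MulAction.exists_smul_eq G S T
      have : g ∈ H := hH ▸ Subgroup.mem_top g
      exact hST (hg ▸ this)
    · intro g hg hdvd
      obtain ⟨x, hx⟩ := exists_prime_orderOf_dvd_card' p hdvd
      have hxo : orderOf (x : G) = p := (Subgroup.orderOf_coe x).trans hx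
      have hx1 : (x : G) ≠ 1 := fun he => (Fact.out : p.Prime).one_lt.ne (by rw [he, orderOf_one] at hxo; exact hxo)
      have inH : ∀ y ∈ H, orderOf y = p → ∃ h ∈ H, y ∈ ((h • S : Sylow p G) : Subgroup G) := by
        intro y hy hyo
        have hpg : IsPGroup p ((Subgroup.zpowers y).subgroupOf H) :=
          (IsPGroup.of_card (n := 1) (by rw [Nat.card_zpowers, hyo, pow_one])).of_equiv
            (Subgroup.subgroupOfEquivOfLe (Subgroup.zpowers_le.mpr hy)).symm
        obtain ⟨Q, hQ⟩ := hpg.exists_le_sylow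
        obtain ⟨h, hh⟩ := MulAction.exists_smul_eq H (S.subtype hSH) Q
        refine ⟨h, h.2, ?_⟩
        have hyQ : (⟨y, hy⟩ : H) ∈ (Q : Subgroup H) := hQ (Subgroup.mem_zpowers y)
        rw [← hh, Sylow.coe_subgroup_smul, Subgroup.pointwise_smul_def] at hyQ
        obtain ⟨z, hz, hzy⟩ := hyQ
        rw [Sylow.coe_subgroup_smul, Subgroup.pointwise_smul_def]
        exact ⟨z, hz, congrArg Subtype.val hzy⟩
      obtain ⟨h, hh, hxh⟩ := inH _ x.2.1 hxo
      obtain ⟨y, hy, hyx⟩ := x.2.2
      have hyo : orderOf y = p := by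
        rw [← hxo, ← hyx]; exact ((MulAut.conj g).orderOf_eq y).symm
      obtain ⟨h', hh', hxh'⟩ := inH y hy hyo
      have hxgh : (x : G) ∈ (((g * h') • S : Sylow p G) : Subgroup G) := by
        rw [mul_smul, Sylow.coe_subgroup_smul, Subgroup.pointwise_smul_def, ← hyx]
        exact Subgroup.mem_map_of_mem _ hxh'
      have hb : Relation.ReflTransGen (SylowMeet p) (h • S) ((g * h') • S) := by
        by_cases he : h • S = (g * h') • S
        · rw [he]
        · exact .single ⟨he, fun hb => hx1 ((Subgroup.eq_bot_iff_forall _).mp hb _ ⟨hxh, hxgh⟩)⟩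
      have hgh : g * h' ∈ H := Relation.ReflTransGen.trans hh hb
      exact hg (by simpa [mul_assoc] using H.mul_mem hgh (H.inv_mem hh'))
  · rintro ⟨H, hH, hpH, h⟩ hconn
    obtain ⟨S, hS⟩ := SPCond.exists_sylow_le h hpH
    have hall : ∀ T : Sylow p G, (T : Subgroup G) ≤ H := by
      intro T
      have := hconn S T
      induction this with
      | refl => exact hS
      | tail _ hbc ih => exact SPCond.sylow_le_of_meet h ih hbc.2
    apply hH
    rw [eq_top_iff]
    intro g _
    obtain ⟨h', hh⟩ := MulAction.exists_smul_eq H (S.subtype hS) ((g • S).subtype (hall _))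
    have he : (h' : G) • S = g • S := by
      have h2 : ((h' : G) • S).subtype (hall _) = (g • S).subtype (hall _) := by
        rw [← hh, Sylow.smul_subtype]; rfl
      exact Sylow.subtype_injective h2
    have hN : (h' : G)⁻¹ * g ∈ Subgroup.normalizer ((S : Subgroup G) : Set G) := by
      refine Sylow.smul_eq_iff_mem_normalizer.mp ?_
      rw [mul_smul, ← he, inv_smul_smul]
    have hS1 : (S : Subgroup G) ≠ ⊥ :=
      S.ne_bot_of_dvd_card (hpH.trans (Subgroup.card_subgroup_dvd_card H))
    have := H.mul_mem h'.2 (SPCond.normalizer_le h S.2 hS1 hS hN)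
    simpa [mul_assoc] using this

end Cfsg.Agent.LocalEvenD
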