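import Mathlib
import Cfsg.Prelude.Def_DStar
import Cfsg.Agent.Lib.PGroup.Basic

/-! The subgroup `D*(S)`: any two members of the defining family commute. -/

set_option autoImplicit false
open scoped commutatorElement

namespace Cfsg.Agent.LocalEvenD

variable {S : Type*} [Group S]

/-- Membership in the family, relative to a subgroup `T`. -/
def DFam (T A : Subgroup S) : Prop :=
  A ≤ T ∧ IsMulCommutative A ∧ ∀ x ∈ T,
    ⁅⁅A ⊔ Subgroup.zpowers x, A ⊔ Subgroup.zpowers x⁆, A ⊔ Subgroup.zpowers x⁆ = ⊥ → ∀ a ∈ A, a * x = x * a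

lemma dFam_top_iff {A : Subgroup S} : DFam ⊤ A ↔ A ∈ Cfsg.dStarFamily S :=
  ⟨fun h => ⟨h.2.1, fun x => h.2.2 x (Subgroup.mem_top x)⟩, fun h => ⟨le_top, h.1, fun x _ => h.2 x⟩⟩

lemma DFam.mono {T T' A : Subgroup S} (h : DFam T A) (hle : T' ≤ T) (hA : A ≤ T') : DFam T' A :=
  ⟨hA, h.2.1, fun x hx => h.2.2 x (hle hx)⟩

lemma classTwo_mono {H K : Subgroup S} (h : ⁅⁅H, H⁆, H⁆ = ⊥) (hle : K ≤ H) : ⁅⁅K, K⁆, K⁆ = ⊥ :=
  le_bot_iff.mp (h ▸ Subgroup.commutator_mono (Subgroup.commutator_mono hle hle) hle)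

/-- Conjugation preserves the relative family. -/
lemma DFam.conj {T A : Subgroup S} (h : DFam T A) {t : S} (ht : t ∈ T) :
    DFam T (A.map (MulAut.conj t).toMonoidHom) := by
  haveI := h.2.1
  refine ⟨?_, inferInstance, ?_⟩
  · rintro _ ⟨a, ha, rfl⟩
    exact T.mul_mem (T.mul_mem ht (h.1 ha)) (T.inv_mem ht)
  · rintro x hx hcl _ ⟨a, ha, rfl⟩
    set φ := (MulAut.conj t).toMonoidHom with hφ
    have hx' : t⁻¹ * x * t ∈ T := T.mul_mem (T.mul_mem (T.inv_mem ht) hx) ht
    have hφx : φ (t⁻¹ * x * t) = x := by simp [hφ, mul_assoc]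
    have hmap : (A ⊔ Subgroup.zpowers (t⁻¹ * x * t)).map φ = A.map φ ⊔ Subgroup.zpowers x := by
      rw [Subgroup.map_sup, MonoidHom.map_zpowers, hφx]
    have h2 : ⁅⁅A ⊔ Subgroup.zpowers (t⁻¹ * x * t), A ⊔ Subgroup.zpowers (t⁻¹ * x * t)⁆,
        A ⊔ Subgroup.zpowers (t⁻¹ * x * t)⁆ = ⊥ := by
      rw [← Subgroup.map_eq_bot_iff_of_injective _ (f := φ) (MulAut.conj t).injective,
        Subgroup.map_commutator, Subgroup.map_commutator, hmap]
      exact hcl
    have h3 := congrArg φ (h.2.2 _ hx' h2 a ha)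
    rwa [map_mul φ a, map_mul φ _ a, hφx] at h3

lemma isMulCommutative_iSup {ι : Sort*} (A : ι → Subgroup S)
    (h : ∀ i j, ∀ a ∈ A i, ∀ b ∈ A j, a * b = b * a) : IsMulCommutative ↥(⨆ i, A i) := by
  rw [Subgroup.iSup_eq_closure]
  refine Subgroup.isMulCommutative_closure ?_
  intro x hx y hy
  obtain ⟨i, hi⟩ := Set.mem_iUnion.mp hx
  obtain ⟨j, hj⟩ := Set.mem_iUnion.mp hy
  exact h i j x hi y hj

lemma DFam.iSup {T : Subgroup S} {ι : Sort*} (A : ι → Subgroup S) (hA : ∀ i, DFam T (A i))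
    (h : ∀ i j, ∀ a ∈ A i, ∀ b ∈ A j, a * b = b * a) : DFam T (⨆ i, A i) := by
  refine ⟨iSup_le fun i => (hA i).1, isMulCommutative_iSup A h, ?_⟩
  intro x hx hcl a ha
  have hle : ⨆ i, A i ≤ Subgroup.centralizer ({x} : Set S) := iSup_le fun i b hb => by
    refine Subgroup.mem_centralizer_singleton_iff.mpr ?_
    exact (hA i).2.2 x hx (classTwo_mono hcl (sup_le_sup_right (le_iSup A i) _)) b hb
  exact Subgroup.mem_centralizer_singleton_iff.mp (hle ha)

/-- An element whose commutators with the abelian `A` are central gives class two. -/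
lemma classTwo_of_central {A : Subgroup S} [IsMulCommutative A] {b : S} (I : Subgroup S)
    (hcen : ∀ a ∈ A ⊔ Subgroup.zpowers b, ∀ i ∈ I, a * i = i * a)
    (hI : I ≤ A ⊔ Subgroup.zpowers b) (hab : ∀ a ∈ A, ⁅a, b⁆ ∈ I) :
    ⁅⁅A ⊔ Subgroup.zpowers b, A ⊔ Subgroup.zpowers b⁆, A ⊔ Subgroup.zpowers b⁆ = ⊥ := by
  set H := A ⊔ Subgroup.zpowers b with hH
  have hbH : b ∈ H := Subgroup.mem_sup_right (Subgroup.mem_zpowers b)
  have key : ⁅H, H⁆ ≤ I := by
    let K := I.subgroupOf H
    haveI hK : K.Normal := ⟨fun i hi g => by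
      show ((g * i * g⁻¹ : H) : S) ∈ I
      have : (g : S) * i = i * g := hcen g g.2 i hi
      simp only [Subgroup.coe_mul, InvMemClass.coe_inv]
      rw [this, mul_inv_cancel_right]
      exact hi⟩
    have hgen : Subgroup.closure ({g : H | (g : S) ∈ A} ∪ {⟨b, hbH⟩}) = ⊤ := by
      apply Subgroup.map_injective H.subtype_injective
      rw [MonoidHom.map_closure, ← MonoidHom.range_eq_map, Subgroup.range_subtype]
      refine le_antisymm ((Subgroup.closure_le _).mpr ?_) (sup_le ?_ ?_)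
      · rintro _ ⟨g, -, rfl⟩; exact g.2
      · intro a ha
        exact Subgroup.subset_closure ⟨⟨a, Subgroup.mem_sup_left ha⟩, Or.inl ha, rfl⟩
      · rw [Subgroup.zpowers_le]
        exact Subgroup.subset_closure ⟨⟨b, hbH⟩, Or.inr rfl, rfl⟩
    have hc : ∀ u v : H, QuotientGroup.mk' K u * QuotientGroup.mk' K v = QuotientGroup.mk' K v * QuotientGroup.mk' K u := by
      have h2 : IsMulCommutative ↥(Subgroup.closure (QuotientGroup.mk' K '' ({g : H | (g : S) ∈ A} ∪ {⟨b, hbH⟩}))) := by
        refine Subgroup.isMulCommutative_closure ?_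
        have hab' : ∀ g : H, (g : S) ∈ A → QuotientGroup.mk' K g * QuotientGroup.mk' K ⟨b, hbH⟩ = QuotientGroup.mk' K ⟨b, hbH⟩ * QuotientGroup.mk' K g := by
          intro g hg
          rw [← commutatorElement_eq_one_iff_mul_comm, ← map_commutatorElement, QuotientGroup.mk'_apply, QuotientGroup.eq_one_iff]
          exact hab g hg
        rintro _ ⟨u, hu | hu, rfl⟩ _ ⟨v, hv | hv, rfl⟩
        · rw [← map_mul, ← map_mul]
          exact congrArg _ (Subtype.ext (setLike_mul_comm (s := A) hu hv))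
        · obtain rfl := hv; exact hab' u hu
        · obtain rfl := hu; exact (hab' v hv).symm
        · obtain rfl := hu; obtain rfl := hv; rfl
      rw [← MonoidHom.map_closure, hgen] at h2
      intro u v
      exact setLike_mul_comm (s := Subgroup.map (QuotientGroup.mk' K) ⊤)
        (Subgroup.mem_map_of_mem _ (Subgroup.mem_top u)) (Subgroup.mem_map_of_mem _ (Subgroup.mem_top v))
    rw [Subgroup.commutator_le]
    intro u hu v hv
    have h3 : QuotientGroup.mk' K ⁅(⟨u, hu⟩ : H), (⟨v, hv⟩ : H)⁆ = 1 := by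
      rw [map_commutatorElement, commutatorElement_eq_one_iff_mul_comm]; exact hc _ _
    have h4 : (⁅(⟨u, hu⟩ : H), (⟨v, hv⟩ : H)⁆ : H) ∈ K := (QuotientGroup.eq_one_iff _).mp h3
    exact h4
  rw [Subgroup.commutator_eq_bot_iff_le_centralizer]
  exact fun i hi h hh => hcen h hh i (key hi)

/-- Any two members of the family commute. -/
theorem dFam_commute [Finite S] {p : ℕ} [Fact p.Prime] (hS : IsPGroup p S) :
    ∀ (n : ℕ) (T A B : Subgroup S), Nat.card T ≤ n → DFam T A → DFam T B → ∀ a ∈ A, ∀ b ∈ B, a * b = b * a := by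
  intro n
  induction n with
  | zero => intro T _ _ h; exact absurd h (not_le.mpr Nat.card_pos)
  | succ n ih =>
    intro T A B hT hA hB
    by_cases hAT : A = T
    · intro a ha b hb
      haveI := hA.2.1
      exact setLike_mul_comm (s := A) ha (hAT.symm ▸ hB.1 hb)
    by_cases hBT : B = T
    · intro a ha b hb
      haveI := hB.2.1
      exact setLike_mul_comm (s := B) (hBT.symm ▸ hA.1 ha) hb
    have closure_fam : ∀ C : Subgroup S, DFam T C → C ≠ T → ∃ N : Subgroup S, C ≤ N ∧ DFam T N ∧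
        ∀ t ∈ T, ∀ x ∈ N, t * x * t⁻¹ ∈ N := by
      intro C hC hCT
      have hne : C.subgroupOf T ≠ ⊤ := by
        rw [Ne, Subgroup.subgroupOf_eq_top]; exact fun h => hCT (le_antisymm hC.1 h)
      obtain ⟨M, hCM, hMn, hMi⟩ := PGroup.exists_le_index_eq_prime (hS.to_subgroup T) hne
      set M' := M.map T.subtype with hM'
      have hM'T : M' ≤ T := Subgroup.map_subtype_le _
      have hcard : Nat.card M' ≤ n := by
        have h1 := M.card_mul_index
        rw [hMi] at h1
        have h2 : Nat.card M' = Nat.card M := Subgroup.card_map_of_injective T.subtype_injective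
        have h3 := (Fact.out : p.Prime).two_le
        have h4 : 0 < Nat.card M := Nat.card_pos
        rw [h2]; nlinarith
      have hconjM : ∀ t ∈ T, C.map (MulAut.conj t).toMonoidHom ≤ M' := by
        rintro t ht _ ⟨c, hc, rfl⟩
        exact ⟨⟨t, ht⟩ * ⟨c, hC.1 hc⟩ * ⟨t, ht⟩⁻¹, hMn.conj_mem _ (hCM hc) _, rfl⟩
      refine ⟨⨆ t : T, C.map (MulAut.conj (t : S)).toMonoidHom, ?_, ?_, ?_⟩
      · refine le_iSup_of_le (1 : T) ?_
        intro c hc; exact ⟨c, hc, by simp⟩
      · refine DFam.iSup _ (fun t => hC.conj t.2) ?_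
        intro t u
        exact ih M' _ _ hcard ((hC.conj t.2).mono hM'T (hconjM _ t.2)) ((hC.conj u.2).mono hM'T (hconjM _ u.2))
      · intro t ht x hx
        have hle : (⨆ s : T, C.map (MulAut.conj (s : S)).toMonoidHom).map (MulAut.conj t).toMonoidHom ≤
            ⨆ s : T, C.map (MulAut.conj (s : S)).toMonoidHom := by
          rw [Subgroup.map_iSup]
          refine iSup_le fun s => le_iSup_of_le (⟨t, ht⟩ * s) ?_
          rw [Subgroup.map_map]
          rintro _ ⟨c, hc, rfl⟩
          exact ⟨c, hc, by simp [mul_assoc]⟩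
        exact hle ⟨x, hx, rfl⟩
    obtain ⟨N₁, hAN, hN₁, hn₁⟩ := closure_fam A hA hAT
    obtain ⟨N₂, hBN, hN₂, hn₂⟩ := closure_fam B hB hBT
    intro a ha b hb
    haveI := hN₁.2.1
    haveI := hN₂.2.1
    have hb2 := hBN hb
    have hbT := hN₂.1 hb2
    refine hN₁.2.2 b hbT ?_ a (hAN ha)
    have hcomm : ∀ x ∈ N₁, ⁅x, b⁆ ∈ N₁ ⊓ N₂ := by
      intro x hx
      rw [commutatorElement_def]
      constructor
      · have := hn₁ b hbT x⁻¹ (N₁.inv_mem hx)
        simpa [mul_assoc] using N₁.mul_mem hx this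
      · exact N₂.mul_mem (hn₂ x (hN₁.1 hx) b hb2) (N₂.inv_mem hb2)
    refine classTwo_of_central (N₁ ⊓ N₂) ?_ (inf_le_left.trans le_sup_left) hcomm
    intro h hh i hi
    have hle : N₁ ⊔ Subgroup.zpowers b ≤ Subgroup.centralizer ({i} : Set S) :=
      sup_le (fun x hx => Subgroup.mem_centralizer_singleton_iff.mpr (setLike_mul_comm (s := N₁) hx hi.1))
        (Subgroup.zpowers_le.mpr (Subgroup.mem_centralizer_singleton_iff.mpr (setLike_mul_comm (s := N₂) hb2 hi.2)))
    exact Subgroup.mem_centralizer_singleton_iff.mp (hle hh)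

theorem dStar_mem [Finite S] {p : ℕ} [Fact p.Prime] (hS : IsPGroup p S) :
    Cfsg.dStar S ∈ Cfsg.dStarFamily S := by
  rw [← dFam_top_iff, Cfsg.dStar, sSup_eq_iSup']
  exact DFam.iSup _ (fun A => dFam_top_iff.mpr A.2) fun A B =>
    dFam_commute hS _ ⊤ A B le_rfl (dFam_top_iff.mpr A.2) (dFam_top_iff.mpr B.2)

lemma map_dStarFamily {S' : Type*} [Group S'] (e : S ≃* S') {A : Subgroup S}
    (hA : A ∈ Cfsg.dStarFamily S) : A.map e.toMonoidHom ∈ Cfsg.dStarFamily S' := by
  haveI := hA.1
  refine ⟨inferInstance, ?_⟩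
  rintro y hcl _ ⟨a, ha, rfl⟩
  have hey : e.toMonoidHom (e.symm y) = y := e.apply_symm_apply y
  have h2 : ⁅⁅A ⊔ Subgroup.zpowers (e.symm y), A ⊔ Subgroup.zpowers (e.symm y)⁆,
      A ⊔ Subgroup.zpowers (e.symm y)⁆ = ⊥ := by
    rw [← Subgroup.map_eq_bot_iff_of_injective _ (f := e.toMonoidHom) e.injective,
      Subgroup.map_commutator, Subgroup.map_commutator, Subgroup.map_sup, MonoidHom.map_zpowers, hey]
    exact hcl
  have h3 := congrArg e.toMonoidHom (hA.2 _ h2 a ha)
  rwa [map_mul, map_mul, hey] at h3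

instance dStar_characteristic : (Cfsg.dStar S).Characteristic := by
  rw [Subgroup.characteristic_iff_map_le]
  intro e
  rw [Cfsg.dStar, sSup_eq_iSup', Subgroup.map_iSup]
  refine iSup_le fun A => ?_
  rw [← sSup_eq_iSup']
  exact le_sSup (map_dStarFamily e A.2)

theorem center_le_dStar : Subgroup.center S ≤ Cfsg.dStar S :=
  le_sSup ⟨inferInstance, fun x _ a ha => (Subgroup.mem_center_iff.mp ha x).symm⟩

/-- Thompson replacement for an abelian normalized subgroup. -/
theorem exists_replacement [Finite S] {p : ℕ} [Fact p.Prime] (hS : IsPGroup p S)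
    (A D : Subgroup S) [IsMulCommutative A] [IsMulCommutative D] [D.Normal]
    (hD : ¬ D ≤ Subgroup.normalizer (A : Set S)) :
    ∃ B : Subgroup S, IsMulCommutative B ∧ Nat.card A ≤ Nat.card B ∧ A ⊓ D < B ⊓ D ∧
      B ≤ Subgroup.normalizer (A : Set S) := by
  classical
  set N := D ⊓ Subgroup.normalizer (A : Set S) with hN
  have hNconj : ∀ a ∈ A, ∀ n ∈ N, a * n * a⁻¹ ∈ N := fun a ha n hn =>
    ⟨‹D.Normal›.conj_mem n hn.1 a, (Subgroup.normalizer (A : Set S)).mul_mem ((Subgroup.normalizer (A : Set S)).mul_mem (Subgroup.le_normalizer ha) hn.2) ((Subgroup.normalizer (A : Set S)).inv_mem (Subgroup.le_normalizer ha))⟩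
  -- a point outside `N` fixed modulo `N`
  obtain ⟨x, hxD, hxN, hx⟩ : ∃ x ∈ D, x ∉ N ∧ ∀ a ∈ A, x⁻¹ * (a * x * a⁻¹) ∈ N := by
    let T : Subgroup S := D ⊔ A
    have hpT : IsPGroup p T := hS.to_subgroup T
    haveI hnil := hpT.isNilpotent
    haveI hNn : (N.subgroupOf T).Normal := by
      refine ⟨fun n hn t => ?_⟩
      show ((t * n * t⁻¹ : T) : S) ∈ N
      obtain ⟨d, hd, a, ha, hda⟩ := Subgroup.mem_sup_of_normal_left.mp t.2
      have h1 := hNconj a ha _ hn
      have h2 : d * (a * n * a⁻¹) = (a * n * a⁻¹) * d := setLike_mul_comm (s := D) hd h1.1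
      simp only [Subgroup.coe_mul, InvMemClass.coe_inv, ← hda]
      rw [show d * a * (n : S) * (d * a)⁻¹ = d * (a * n * a⁻¹) * d⁻¹ by group, h2]
      simpa using h1
    set π := QuotientGroup.mk' (N.subgroupOf T) with hπ
    set D' : Subgroup (T ⧸ N.subgroupOf T) := (D.subgroupOf T).map π with hD'
    haveI : D'.Normal := (inferInstance : (D.subgroupOf T).Normal).map _ (QuotientGroup.mk'_surjective _)
    have hD'ne : D' ≠ ⊥ := by
      rw [hD', Ne, Subgroup.map_eq_bot_iff, QuotientGroup.ker_mk']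
      intro hle
      apply hD
      intro d hd
      exact (hle (show (⟨d, Subgroup.mem_sup_left hd⟩ : T) ∈ D.subgroupOf T from hd) : d ∈ N).2
    obtain ⟨u, ⟨⟨u', hu', huu'⟩, huc⟩, hu1⟩ := (Subgroup.bot_or_exists_ne_one _).resolve_left
      (PGroup.inf_center_ne_bot (hpT.to_quotient _) hD'ne)
    refine ⟨u', hu', ?_, fun a ha => ?_⟩
    · intro h
      apply hu1
      rw [← huu']
      exact (QuotientGroup.eq_one_iff u').mpr h
    · have := Subgroup.mem_center_iff.mp huc (π ⟨a, Subgroup.mem_sup_right ha⟩)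
      rw [← huu', ← map_mul, ← map_mul] at this
      have h2 := QuotientGroup.eq.mp this.symm
      have h3 : ((u' : S) * a)⁻¹ * (a * u') ∈ N := h2
      have h4 := hNconj a ha _ h3
      simpa [mul_assoc] using h4
  set f : S → S := fun a => x⁻¹ * (a * x * a⁻¹) with hf
  have hfN : ∀ a ∈ A, f a ∈ N := hx
  set M := Subgroup.closure (f '' (A : Set S)) with hM
  have hMN : M ≤ N := by
    rw [hM, Subgroup.closure_le]; rintro _ ⟨a, ha, rfl⟩; exact hfN a ha
  set C := A ⊓ Subgroup.centralizer (M : Set S) with hC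
  have hcocy : ∀ a b : S, f (a * b) = f a * (a * f b * a⁻¹) := fun a b => by simp only [hf]; group
  have hadA : ∀ c ∈ A, ∀ n ∈ N, n⁻¹ * c * n ∈ A := fun c hc n hn =>
    (Subgroup.mem_normalizer_iff''.mp hn.2 c).mp hc
  have hfC : ∀ c ∈ A, f c ∈ A → c ∈ C := by
    intro c hc hfc
    refine ⟨hc, ?_⟩
    have hle : M ≤ Subgroup.centralizer ({c} : Set S) := by
      rw [hM, Subgroup.closure_le]
      rintro _ ⟨a, ha, rfl⟩
      refine Subgroup.mem_centralizer_singleton_iff.mpr ?_
      have h1 : f a * (a * f c * a⁻¹) = f c * (c * f a * c⁻¹) := by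
        rw [← hcocy, ← hcocy, setLike_mul_comm (s := A) ha hc]
      have h2 : a * f c * a⁻¹ = f c := by rw [setLike_mul_comm (s := A) ha hfc]; group
      have hfaD : f a ∈ D := (hfN a ha).1
      have hfcD : f c ∈ D := (hfN c hc).1
      rw [h2, setLike_mul_comm (s := D) hfaD hfcD] at h1
      have h3 := mul_left_cancel h1
      calc f a * c = (c * f a * c⁻¹) * c := by rw [← h3]
        _ = c * f a := by group
    intro m hm
    exact Subgroup.mem_centralizer_singleton_iff.mp (hle hm)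
  -- counting
  have hAM : A ⊓ M ≤ C := fun y hy => ⟨hy.1, fun m hm => setLike_mul_comm (s := D) (hMN hm).1 (hMN hy.2).1⟩
  haveI hMc : IsMulCommutative M := ⟨⟨fun u v => Subtype.ext (setLike_mul_comm (s := D) (hMN u.2).1 (hMN v.2).1)⟩⟩
  have hcomm : ∀ u ∈ M, ∀ v ∈ C, u * v = v * u := fun u hu v hv => hv.2 u hu
  refine ⟨M ⊔ C, ?_, ?_, ?_, sup_le (hMN.trans inf_le_right) (inf_le_left.trans Subgroup.le_normalizer)⟩
  · rw [← Subgroup.le_centralizer_iff_isMulCommutative]
    have e : ∀ u ∈ M ⊔ C, ∀ v ∈ M ⊔ C, u * v = v * u := by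
      intro u hu v hv
      have hle : M ⊔ C ≤ Subgroup.centralizer ({u} : Set S) := by
        have hM1 : ∀ w ∈ M, w * u = u * w := by
          intro w hw
          have : M ⊔ C ≤ Subgroup.centralizer ({w} : Set S) :=
            sup_le (fun m hm => Subgroup.mem_centralizer_singleton_iff.mpr (setLike_mul_comm (s := M) hm hw))
              (fun c hc => Subgroup.mem_centralizer_singleton_iff.mpr (hcomm w hw c hc).symm)
          exact (Subgroup.mem_centralizer_singleton_iff.mp (this hu)).symm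
        have hC1 : ∀ w ∈ C, w * u = u * w := by
          intro w hw
          have : M ⊔ C ≤ Subgroup.centralizer ({w} : Set S) :=
            sup_le (fun m hm => Subgroup.mem_centralizer_singleton_iff.mpr (hcomm m hm w hw))
              (fun c hc => Subgroup.mem_centralizer_singleton_iff.mpr (setLike_mul_comm (s := A) hc.1 hw.1))
          exact (Subgroup.mem_centralizer_singleton_iff.mp (this hu)).symm
        exact sup_le (fun w hw => Subgroup.mem_centralizer_singleton_iff.mpr (hM1 w hw))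
          (fun w hw => Subgroup.mem_centralizer_singleton_iff.mpr (hC1 w hw))
      exact (Subgroup.mem_centralizer_singleton_iff.mp (hle hv)).symm
    exact fun v hv u hu => e u hu v hv
  · -- the injection
    have hprod : ∀ a ∈ A, ∀ b ∈ A, (f a)⁻¹ * f b ∈ A → a⁻¹ * b ∈ C := by
      intro a ha b hb h
      refine hfC _ (A.mul_mem (A.inv_mem ha) hb) ?_
      have e : (f a)⁻¹ * f b = a * f (a⁻¹ * b) * a⁻¹ := by
        have := hcocy a (a⁻¹ * b)
        rw [mul_inv_cancel_left] at this
        rw [this]; group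
      rw [e] at h
      have := A.mul_mem (A.mul_mem (A.inv_mem ha) h) ha
      simpa [mul_assoc] using this
    have hidx : C.relIndex A ≤ (A ⊓ M).relIndex M := by
      rw [Subgroup.relIndex, Subgroup.relIndex, Subgroup.index, Subgroup.index]
      refine Nat.card_le_card_of_injective
        (fun q : A ⧸ C.subgroupOf A => QuotientGroup.mk
          (⟨f (Quotient.out q : A), Subgroup.subset_closure ⟨_, (Quotient.out q : A).2, rfl⟩⟩ : M)) ?_
      intro q r hqr
      have h1 := QuotientGroup.eq.mp hqr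
      have h2 := hprod _ (Quotient.out q : A).2 _ (Quotient.out r : A).2 h1.1
      calc q = QuotientGroup.mk (Quotient.out q : A) := (QuotientGroup.out_eq' q).symm
        _ = QuotientGroup.mk (Quotient.out r : A) := QuotientGroup.eq.mpr h2
        _ = r := QuotientGroup.out_eq' r
    have h1 : Nat.card C * C.relIndex A = Nat.card A := by
      have := Subgroup.relIndex_mul_relIndex (⊥ : Subgroup S) C A bot_le inf_le_left
      simpa [Subgroup.relIndex_bot_left] using this
    have h2 : Nat.card ↥(A ⊓ M) * (A ⊓ M).relIndex M = Nat.card M := by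
      have := Subgroup.relIndex_mul_relIndex (⊥ : Subgroup S) (A ⊓ M) M bot_le inf_le_right
      simpa [Subgroup.relIndex_bot_left] using this
    have hCM : C ⊓ M = A ⊓ M := le_antisymm (inf_le_inf_right _ inf_le_left) (le_inf hAM inf_le_right)
    haveI : (C.subgroupOf (M ⊔ C)).Normal := by
      refine ⟨fun c hc g => ?_⟩
      show ((g * c * g⁻¹ : ↥(M ⊔ C)) : S) ∈ C
      have : M ⊔ C ≤ Subgroup.centralizer ({(c : S)} : Set S) :=
        sup_le (fun m hm => Subgroup.mem_centralizer_singleton_iff.mpr (hcomm m hm c hc))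
          (fun c' hc' => Subgroup.mem_centralizer_singleton_iff.mpr (setLike_mul_comm (s := A) hc'.1 (show (c : S) ∈ C from hc).1))
      have h4 := Subgroup.mem_centralizer_singleton_iff.mp (this g.2)
      simp only [Subgroup.coe_mul, InvMemClass.coe_inv, h4, mul_inv_cancel_right]
      exact hc
    have h3 : (C ⊓ M).relIndex M ≤ C.relIndex (M ⊔ C) := by
      rw [Subgroup.inf_relIndex_right]
      exact Subgroup.relIndex_le_of_le_right le_sup_left (by
        rw [Subgroup.relIndex]; exact Subgroup.index_ne_zero_of_finite)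
    have h5 : Nat.card C * C.relIndex (M ⊔ C) = Nat.card ↥(M ⊔ C) := by
      have := Subgroup.relIndex_mul_relIndex (⊥ : Subgroup S) C (M ⊔ C) bot_le le_sup_right
      simpa [Subgroup.relIndex_bot_left] using this
    rw [← h1, ← h5]
    refine Nat.mul_le_mul_left _ (hidx.trans ?_)
    rw [← hCM]; exact h3
  · refine lt_of_le_of_ne ?_ ?_
    · refine le_inf (fun y hy => Subgroup.mem_sup_right ⟨hy.1, ?_⟩) inf_le_right
      intro m hm
      exact setLike_mul_comm (s := D) (hMN hm).1 hy.2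
    · intro he
      apply hxN
      refine ⟨hxD, ?_⟩
      have hfA : ∀ a ∈ A, f a ∈ A := fun a ha => by
        have : f a ∈ (M ⊔ C) ⊓ D :=
          ⟨Subgroup.mem_sup_left (Subgroup.subset_closure ⟨a, ha, rfl⟩), (hfN a ha).1⟩
        rw [← he] at this
        exact this.1
      have hle : A.map (MulAut.conj x⁻¹).toMonoidHom ≤ A := by
        rintro _ ⟨a, ha, rfl⟩
        have := A.mul_mem (hfA a ha) ha
        simpa [hf, mul_assoc] using this
      have := Subgroup.eq_of_le_of_card_ge hle (Subgroup.card_map_of_injective (MulAut.conj x⁻¹).injective).ge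
      have h2 : x⁻¹ ∈ Subgroup.normalizer (A : Set S) := Subgroup.mem_normalizer_iff_map_conj_eq.mpr this
      simpa using inv_mem h2

end Cfsg.Agent.LocalEvenD
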