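import Cfsg.Prelude.Def_Transfer
import Cfsg.Agent.Lib.PGroup.Basic
import Mathlib.GroupTheory.Exponent

/-! Extraspecial groups of order `p ^ 3`, used inside an ambient group. -/

set_option autoImplicit false

namespace Cfsg.Agent.LocalEvenD

variable {P : Type*} [Group P] [Finite P] {p : ℕ} [Fact p.Prime]

section
variable (hE : Cfsg.IsExtraspecial p P)
include hE

lemma xs_comm_mem_center (a b : P) : a * b * a⁻¹ * b⁻¹ ∈ Subgroup.center P := by
  rw [← hE.1.2.2]
  exact Subgroup.commutator_mem_commutator (Subgroup.mem_top a) (Subgroup.mem_top b)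

lemma xs_pow_mem_center (a : P) : a ^ p ∈ Subgroup.center P := by
  rw [← hE.1.2.1]; exact PGroup.pow_mem_frattini hE.1.1 a

lemma xs_center_pow {c : P} (hc : c ∈ Subgroup.center P) : c ^ p = 1 := by
  have := orderOf_dvd_natCard (⟨c, hc⟩ : Subgroup.center P)
  rw [hE.2, ← Subgroup.orderOf_coe] at this
  exact orderOf_dvd_iff_pow_eq_one.mp this

lemma xs_conj_pow (a b : P) : ∀ n : ℕ,
    a * b ^ n * a⁻¹ = (a * b * a⁻¹ * b⁻¹) ^ n * b ^ n := by
  intro n
  induction n with
  | zero => simp
  | succ n ih =>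
    have hc := Subgroup.mem_center_iff.mp (xs_comm_mem_center hE a b)
    calc a * b ^ (n + 1) * a⁻¹ = (a * b ^ n * a⁻¹) * (a * b * a⁻¹ * b⁻¹) * b := by rw [pow_succ]; group
      _ = (a * b * a⁻¹ * b⁻¹) ^ n * (b ^ n * (a * b * a⁻¹ * b⁻¹)) * b := by rw [ih]; group
      _ = _ := by rw [hc (b ^ n), pow_succ (a * b * a⁻¹ * b⁻¹), pow_succ b]; group

/-- Every central element is a commutator with a given noncentral element. -/
lemma xs_exists_conj_eq {y : P} (hy : y ∉ Subgroup.center P) {c : P} (hc : c ∈ Subgroup.center P) :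
    ∃ u : P, u * y * u⁻¹ = y * c := by
  let S : Subgroup P :=
    { carrier := {c | c ∈ Subgroup.center P ∧ ∃ u : P, u * y * u⁻¹ = y * c}
      one_mem' := ⟨one_mem _, 1, by simp⟩
      mul_mem' := by
        rintro c d ⟨hc, u, hu⟩ ⟨hd, v, hv⟩
        refine ⟨mul_mem hc hd, u * v, ?_⟩
        calc u * v * y * (u * v)⁻¹ = u * (v * y * v⁻¹) * u⁻¹ := by group
          _ = u * (y * d) * u⁻¹ := by rw [hv]
          _ = (u * y * u⁻¹) * (u * d * u⁻¹) := by group
          _ = (y * c) * d := by rw [hu, Subgroup.mem_center_iff.mp hd u]; group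
          _ = _ := mul_assoc _ _ _
      inv_mem' := by
        rintro c ⟨hc, u, hu⟩
        refine ⟨inv_mem hc, u⁻¹, ?_⟩
        have h1 : y = y * c * c⁻¹ := by group
        calc u⁻¹ * y * u⁻¹⁻¹ = u⁻¹ * (y * c * c⁻¹) * u := by rw [← h1]; group
          _ = u⁻¹ * (u * y * u⁻¹) * c⁻¹ * u := by rw [hu]; group
          _ = y * u⁻¹ * (c⁻¹ * u) := by group
          _ = y * u⁻¹ * (u * c⁻¹) := by rw [Subgroup.mem_center_iff.mp (inv_mem hc) u]
          _ = y * c⁻¹ := by group }
  have hS : S ≤ Subgroup.center P := fun c hc => hc.1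
  have hS1 : S ≠ ⊥ := by
    intro hb
    apply hy
    rw [Subgroup.mem_center_iff]
    intro u
    have hm : y⁻¹ * (u * y * u⁻¹) ∈ S := by
      refine ⟨?_, u, by group⟩
      have h := xs_comm_mem_center hE y⁻¹ u
      simpa [mul_assoc] using h
    rw [hb, Subgroup.mem_bot, inv_mul_eq_one, eq_mul_inv_iff_mul_eq] at hm
    exact hm.symm
  have : S = Subgroup.center P := by
    refine Subgroup.eq_of_le_of_card_ge hS ?_
    rw [hE.2]
    exact PGroup.le_card_of_ne_bot hE.1.1 hS1
  exact (this ▸ hc : c ∈ S).2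

variable (hcard : Nat.card P = p ^ 3)
include hcard

lemma xs_center_ne_top : Subgroup.center P ≠ ⊤ := by
  intro h
  have h2 := hE.2
  rw [h, Subgroup.card_top, hcard] at h2
  exact absurd h2 (Nat.ne_of_gt (lt_self_pow₀ (Fact.out : p.Prime).one_lt (by norm_num)))

/-- The centralizer of a noncentral element has order `p ^ 2`. -/
lemma xs_card_centralizer {y : P} (hy : y ∉ Subgroup.center P) :
    Nat.card (Subgroup.centralizer ({y} : Set P)) = p ^ 2 := by
  have h1 : Subgroup.center P < Subgroup.centralizer ({y} : Set P) :=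
    lt_of_le_of_ne (Subgroup.center_le_centralizer _) fun h => hy (h ▸ (Subgroup.mem_centralizer_singleton_iff.mpr rfl))
  have h2 : Subgroup.centralizer ({y} : Set P) < ⊤ :=
    lt_top_iff_ne_top.mpr fun h => hy (Subgroup.centralizer_eq_top_iff_subset.mp h rfl)
  obtain ⟨k, hk⟩ := PGroup.exists_card_eq_pow hE.1.1 (Subgroup.centralizer ({y} : Set P))
  have hlo : p < p ^ k := by
    rw [← hk, ← hE.2]
    exact lt_of_le_of_ne (Subgroup.card_le_of_le h1.le) fun he => h1.ne (Subgroup.eq_of_le_of_card_ge h1.le he.ge)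
  have hhi : p ^ k < p ^ 3 := by
    rw [← hk, ← hcard]
    refine lt_of_le_of_ne (Subgroup.card_le_card_group _) fun he => h2.ne (Subgroup.eq_top_of_card_eq _ he)
  have hp1 := (Fact.out : p.Prime).one_lt
  rw [Nat.pow_lt_pow_iff_right hp1] at hhi
  have : 1 < k := (Nat.pow_lt_pow_iff_right hp1).mp ((pow_one p).le.trans_lt hlo)
  rw [hk, show k = 2 by omega]

/-- Two noncommuting elements: the centralizer of a noncentral element is abelian. -/
lemma xs_commute_of_centralizer {y a b : P} (hy : y ∉ Subgroup.center P)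
    (ha : a * y = y * a) (hb : b * y = y * b) : a * b = b * a := by
  by_cases hac : a ∈ Subgroup.center P
  · exact (Subgroup.mem_center_iff.mp hac b).symm
  have he : Subgroup.centralizer ({a} : Set P) = Subgroup.centralizer ({y} : Set P) := by
    -- both contain the centre and `a`, `y`
    have hle : Subgroup.center P ⊔ Subgroup.zpowers a ≤ Subgroup.centralizer ({a} : Set P) ⊓ Subgroup.centralizer ({y} : Set P) :=
      sup_le (le_inf (Subgroup.center_le_centralizer _) (Subgroup.center_le_centralizer _))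
        (Subgroup.zpowers_le.mpr ⟨Subgroup.mem_centralizer_singleton_iff.mpr rfl, Subgroup.mem_centralizer_singleton_iff.mpr ha⟩)
    have hlt : Subgroup.center P < Subgroup.center P ⊔ Subgroup.zpowers a :=
      lt_of_le_of_ne le_sup_left fun h => hac (h ▸ Subgroup.mem_sup_right (Subgroup.mem_zpowers a))
    obtain ⟨k, hk⟩ := PGroup.exists_card_eq_pow hE.1.1 (Subgroup.center P ⊔ Subgroup.zpowers a)
    have hp1 := (Fact.out : p.Prime).one_lt
    have h2 : p ^ 2 ≤ Nat.card ↥(Subgroup.center P ⊔ Subgroup.zpowers a) := by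
      have hlo : p ^ 1 < p ^ k := by
        rw [← hk, pow_one, ← hE.2]
        exact lt_of_le_of_ne (Subgroup.card_le_of_le hlt.le) fun he => hlt.ne (Subgroup.eq_of_le_of_card_ge hlt.le he.ge)
      rw [Nat.pow_lt_pow_iff_right hp1] at hlo
      rw [hk]; exact Nat.pow_le_pow_right hp1.le hlo
    have e1 := Subgroup.eq_of_le_of_card_ge (hle.trans inf_le_left) (by rw [xs_card_centralizer hE hcard hac]; exact h2)
    have e2 := Subgroup.eq_of_le_of_card_ge (hle.trans inf_le_right) (by rw [xs_card_centralizer hE hcard hy]; exact h2)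
    exact e1.symm.trans e2
  exact (Subgroup.mem_centralizer_singleton_iff.mp (he ▸ Subgroup.mem_centralizer_singleton_iff.mpr hb)).symm

omit hcard in
/-- For odd `p`, the `p`-th power is a homomorphism. -/
lemma xs_mul_pow (hp : p ≠ 2) (a b : P) : (a * b) ^ p = a ^ p * b ^ p := by
  have hc : b * a * b⁻¹ * a⁻¹ ∈ Subgroup.center P := xs_comm_mem_center hE b a
  set c := b * a * b⁻¹ * a⁻¹
  have hcc := Subgroup.mem_center_iff.mp hc
  have key : ∀ n : ℕ, (a * b) ^ n = a ^ n * b ^ n * c ^ (n * (n - 1) / 2) := by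
    intro n
    induction n with
    | zero => simp
    | succ n ih =>
      have hba : b ^ n * a = c ^ n * (a * b ^ n) := by
        induction n with
        | zero => simp
        | succ m _ =>
          clear ih
          have : ∀ j : ℕ, b ^ j * a = c ^ j * (a * b ^ j) := by
            intro j
            induction j with
            | zero => simp
            | succ j ihj =>
              calc b ^ (j + 1) * a = b ^ j * (c * (a * b)) := by rw [pow_succ]; simp [c, mul_assoc]
                _ = c * (b ^ j * a) * b := by rw [← mul_assoc, hcc (b ^ j)]; group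
                _ = _ := by rw [ihj, pow_succ' c, pow_succ b]; group
          exact this _
      have hexp : (n + 1) * (n + 1 - 1) / 2 = n + n * (n - 1) / 2 := by
        rcases n with _ | m
        · rfl
        · simp only [Nat.add_sub_cancel]
          rw [show (m + 1 + 1) * (m + 1) = (m + 1) * m + (m + 1) * 2 by ring,
            Nat.add_mul_div_right _ _ (by norm_num)]
          ring
      have hcp : ∀ (j : ℕ) (z : P), z * c ^ j = c ^ j * z := fun j z =>
        Subgroup.mem_center_iff.mp (Subgroup.pow_mem _ hc j) z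
      calc (a * b) ^ (n + 1) = a ^ n * b ^ n * (c ^ (n * (n - 1) / 2) * a) * b := by rw [pow_succ, ih]; group
        _ = a ^ n * (b ^ n * a) * (c ^ (n * (n - 1) / 2) * b) := by rw [← hcp _ a]; group
        _ = (a ^ n * c ^ n) * a * b ^ n * (b * c ^ (n * (n - 1) / 2)) := by rw [hba, ← hcp _ b]; group
        _ = c ^ n * a ^ n * a * b ^ n * b * c ^ (n * (n - 1) / 2) := by rw [hcp n (a ^ n)]; group
        _ = c ^ n * (a ^ (n + 1) * b ^ (n + 1)) * c ^ (n * (n - 1) / 2) := by rw [pow_succ, pow_succ]; group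
        _ = _ := by rw [← hcp n, hexp, pow_add]; group
  rw [key p]
  have hdvd : p ∣ p * (p - 1) / 2 := by
    obtain ⟨k, hk⟩ := (Nat.Prime.odd_of_ne_two Fact.out hp : Odd p)
    refine ⟨k, ?_⟩
    rw [show p - 1 = 2 * k by omega, show p * (2 * k) = (p * k) * 2 by ring, Nat.mul_div_cancel _ (by norm_num)]
  obtain ⟨k, hk⟩ := hdvd
  rw [hk, pow_mul, xs_center_pow hE hc, one_pow, mul_one]

/-- In exponent `p ^ 2`, all elements killed by `p` lie in the centralizer of any noncentral one. -/
lemma xs_omega (hp : p ≠ 2) (hexp : Monoid.exponent P = p ^ 2) {y u : P} (hy : y ∉ Subgroup.center P)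
    (hyp : y ^ p = 1) (hu : u ^ p = 1) : u * y = y * u := by
  let f : P →* P := MonoidHom.mk' (fun a => a ^ p) (xs_mul_pow hE hp)
  have hne : f.ker ≠ ⊤ := by
    intro h
    have h1 : Monoid.exponent P ∣ p := Monoid.exponent_dvd_of_forall_pow_eq_one fun a =>
      MonoidHom.mem_ker.mp (h ▸ Subgroup.mem_top a : a ∈ f.ker)
    rw [hexp] at h1
    have := Nat.le_of_dvd (Fact.out : p.Prime).pos h1
    have := (Fact.out : p.Prime).two_le
    nlinarith
  by_contra hcomm
  apply hne
  -- the kernel contains the centre and two noncommuting elements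
  have hZ : Subgroup.center P ≤ f.ker := fun c hc => MonoidHom.mem_ker.mpr (xs_center_pow hE hc)
  have hlt : Subgroup.centralizer ({y} : Set P) ⊓ f.ker < f.ker :=
    lt_of_le_of_ne inf_le_right fun h =>
      hcomm (Subgroup.mem_centralizer_singleton_iff.mp
        ((le_inf_iff.mp (le_of_eq h.symm)).1 (MonoidHom.mem_ker.mpr hu : u ∈ f.ker)))
  obtain ⟨k, hk⟩ := PGroup.exists_card_eq_pow hE.1.1 (Subgroup.centralizer ({y} : Set P) ⊓ f.ker)
  obtain ⟨l, hl⟩ := PGroup.exists_card_eq_pow hE.1.1 f.ker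
  have hp1 := (Fact.out : p.Prime).one_lt
  have hlt1 : Subgroup.center P < Subgroup.centralizer ({y} : Set P) ⊓ f.ker :=
    lt_of_le_of_ne (le_inf (Subgroup.center_le_centralizer _) hZ) fun h =>
      hy (h ▸ ⟨Subgroup.mem_centralizer_singleton_iff.mpr rfl, MonoidHom.mem_ker.mpr hyp⟩)
  have c1 : p ^ 1 < p ^ k := by
    rw [pow_one, ← hk, ← hE.2]
    exact lt_of_le_of_ne (Subgroup.card_le_of_le hlt1.le) fun he => hlt1.ne (Subgroup.eq_of_le_of_card_ge hlt1.le he.ge)
  have c2 : p ^ k < p ^ l := by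
    rw [← hl, ← hk]
    exact lt_of_le_of_ne (Subgroup.card_le_of_le hlt.le) fun he => hlt.ne (Subgroup.eq_of_le_of_card_ge hlt.le he.ge)
  rw [Nat.pow_lt_pow_iff_right hp1] at c1 c2
  refine Subgroup.eq_top_of_card_eq _ (le_antisymm (Subgroup.card_le_card_group _) ?_)
  rw [hl, hcard]
  exact Nat.pow_le_pow_right hp1.le (by omega)

end

end Cfsg.Agent.LocalEvenD
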