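import Cfsg.Agent.LocalEvenD.ZJStrong
import Cfsg.Agent.PLocalB.PStable
import Cfsg.Agent.PLocalB.CharPStable
import Cfsg.Agent.Lib.PComplement.GlaubermanThompson
import Cfsg.Agent.Lib.PGroup.Basic
import Cfsg.Agent.LAE65.Basic

/-!
# The Glauberman–Thompson criterion for strongly closed subgroups
-/

set_option autoImplicit false
set_option linter.style.haveILetI false

open Subgroup
open scoped commutatorElement

namespace Cfsg.Agent.LocalEvenD

universe u

variable {p : ℕ} [hp : Fact p.Prime]

theorem isStronglyClosed_bot {G : Type u} [Group G] (P : Subgroup G) :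
    Cfsg.IsStronglyClosed (⊥ : Subgroup G) P :=
  ⟨bot_le, fun x hx g _ => by rw [mem_bot.mp hx]; simp⟩

/-- A functor defined on `p`-subgroups, as needed by the criterion. -/
structure CentreFunctor (p : ℕ) where
  /-- the subgroup attached to `D` -/
  X : ∀ (G : Type u) [Group G], Subgroup G → Subgroup G
  le : ∀ (G : Type u) [Group G] [Finite G] (D : Subgroup G), X G D ≤ D
  ne_bot : ∀ (G : Type u) [Group G] [Finite G] (D : Subgroup G), IsPGroup p D → D ≠ ⊥ → X G D ≠ ⊥
  normalizer_le : ∀ (G : Type u) [Group G] [Finite G] (D : Subgroup G),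
    normalizer (D : Set G) ≤ normalizer (X G D : Set G)
  map : ∀ (G H : Type u) [Group G] [Group H] [Finite G] [Finite H] (f : G →* H) (D : Subgroup G),
    Set.InjOn f D → (X G D).map f = X H (D.map f)
  normal : ∀ (G : Type u) [Group G] [Finite G] (P : Sylow p G) (V K D : Subgroup G),
    PComplement.IsReduced p (P : Subgroup G) V K → Cfsg.IsStronglyClosed D (P : Subgroup G) →
      (X G D).Normal

theorem centreFunctor_criterion (F : CentreFunctor.{u} p) {G : Type u} [Group G] [Finite G]
    (P : Sylow p G) {D : Subgroup G} (hD : Cfsg.IsStronglyClosed D (P : Subgroup G))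
    (h1 : Cfsg.HasNormalPComplement p (normalizer (F.X G D : Set G))) :
    Cfsg.HasNormalPComplement p G := by
  refine PComplement.hasNormalPComplement_of_criterion (p := p)
    (fun G _ _ P => ∃ D : Subgroup G, Cfsg.IsStronglyClosed D P ∧
      Cfsg.HasNormalPComplement p (normalizer (F.X G D : Set G)))
    ?_ ?_ ?_ ?_ ?_ G P ⟨D, hD, h1⟩
  · rintro G _ _ P M hPM ⟨D, hD, hT⟩
    refine ⟨D.subgroupOf M, ⟨fun x hx => hD.1 hx, fun x hx g hg => hD.2 (x : G) hx g hg⟩, ?_⟩
    refine PComplement.hasNormalPComplement_of_map_le M.subtype M.subtype_injective ?_ hT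
    refine (le_normalizer_map _).trans ?_
    rw [F.map M G M.subtype (D.subgroupOf M) (fun _ _ _ _ h => M.subtype_injective h),
      map_subgroupOf_eq_of_le (hD.1.trans hPM)]
  · rintro G _ _ P H hHb hHP hyp ⟨D, hD, hT⟩
    set N := normalizer (H : Set G) with hN
    set S : Subgroup G := (P : Subgroup G) ⊓ N with hS
    have hD' : Cfsg.IsStronglyClosed (D ⊓ N) S :=
      ⟨inf_le_inf_right N hD.1, fun x hx g hg => ⟨hD.2 x hx.1 g hg.1, hg.2⟩⟩
    refine ⟨(D ⊓ N).subgroupOf N,
      ⟨fun x hx => ⟨hD.1 hx.1, x.2⟩,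
        fun x hx g hg => ⟨hD.2 (x : G) hx.1 g hg.1, (g * x * g⁻¹).2⟩⟩, ?_⟩
    refine PComplement.hasNormalPComplement_of_map_le N.subtype N.subtype_injective
      (B := normalizer (F.X G (D ⊓ N) : Set G)) ((le_normalizer_map _).trans (by
      rw [F.map N G N.subtype ((D ⊓ N).subgroupOf N) (fun _ _ _ _ h => N.subtype_injective h),
        map_subgroupOf_eq_of_le inf_le_right])) ?_
    by_cases hDb : D = ⊥
    · have htop : normalizer (F.X G D : Set G) = ⊤ := by
        rw [le_bot_iff.mp ((F.le G D).trans hDb.le), normalizer_eq_top]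
      rw [htop] at hT
      exact Transfer.hasNormalPComplement_mono (K := ⊤) le_top hT
    · refine hyp _ ((F.le G _).trans (inf_le_left.trans hD.1))
        (F.ne_bot G _ (P.2.to_le (inf_le_left.trans hD.1)) ?_) ?_
      · -- a central element of `P` in `D`
        haveI hDn : (D.subgroupOf (P : Subgroup G)).Normal :=
          ⟨fun d hd x => hD.2 (d : G) hd (x : G) (x * d * x⁻¹).2⟩
        have hne : D.subgroupOf (P : Subgroup G) ≠ ⊥ := by
          rw [Ne, subgroupOf_eq_bot, disjoint_iff, inf_eq_left.mpr hD.1]; exact hDb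
        obtain ⟨⟨z, hz⟩, hz1⟩ := ne_bot_iff_exists_ne_one.mp (PGroup.inf_center_ne_bot P.2 hne)
        intro hb
        refine hz1 (Subtype.ext (Subtype.ext (mem_bot.mp (hb.le ⟨hz.1, ?_⟩))))
        refine PLocalB.mem_normalizer_of_conj_mem H _ fun y hy => ?_
        have hc : y * (z : G) = (z : G) * y :=
          congrArg Subtype.val (mem_center_iff.mp hz.2 ⟨y, hHP hy⟩)
        rwa [← hc, mul_inv_cancel_right]
      · refine le_trans (fun g hg => ?_) (F.normalizer_le G _)
        refine PLocalB.mem_normalizer_of_conj_mem _ g fun d hd => ?_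
        exact hD'.2 d hd g ((mem_normalizer_iff.mp hg d).mp (hD'.1 hd))
  · rintro G _ _ P V _ hVb hVP hyp ⟨D, hD, hT⟩
    set f := QuotientGroup.mk' V with hf
    have hfs := QuotientGroup.mk'_surjective V
    set Pb : Subgroup (G ⧸ V) := (P : Subgroup G).map f with hPb
    have hPc : Pb.comap f = (P : Subgroup G) := by
      rw [hPb, comap_map_eq, QuotientGroup.ker_mk', sup_eq_left.mpr hVP.le]
    have hsc : Cfsg.IsStronglyClosed (D.map f) Pb := by
      refine ⟨map_mono hD.1, ?_⟩
      rintro _ ⟨x, hx, rfl⟩ gb hg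
      obtain ⟨g, rfl⟩ := hfs gb
      have hmem : g * x * g⁻¹ ∈ Pb.comap f := by
        rw [mem_comap, map_mul, map_mul, map_inv]; exact hg
      rw [hPc] at hmem
      exact ⟨_, hD.2 x hx g hmem, by rw [map_mul, map_mul, map_inv]⟩
    refine ⟨D.map f, hsc, ?_⟩
    by_cases hDb : D.map f = ⊥
    · have hDV : D ≤ V := by
        rw [Subgroup.map_eq_bot_iff, QuotientGroup.ker_mk'] at hDb; exact hDb
      have hDn : D.Normal :=
        ⟨fun d hd g => hD.2 d hd g (hVP.le ((‹V.Normal›).conj_mem d (hDV hd) g))⟩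
      have htop : normalizer (F.X G D : Set G) = ⊤ := top_le_iff.mp
        ((normalizer_eq_top_iff.mpr hDn).ge.trans (F.normalizer_le G D))
      rw [htop] at hT
      refine PComplement.hasNormalPComplement_of_le_map f (B := ⊤) ?_ hT
      rw [map_top_of_surjective f hfs]; exact le_top
    · set X := F.X (G ⧸ V) (D.map f) with hX
      have hXP : X ≤ Pb := (F.le _ _).trans hsc.1
      have hXb : X ≠ ⊥ := F.ne_bot _ _ ((P.2.map f).to_le hsc.1) hDb
      refine PComplement.hasNormalPComplement_of_le_map f (B := normalizer (X.comap f : Set G)) ?_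
        (hyp (X.comap f) ?_ (hPc ▸ comap_mono hXP) ?_)
      · rw [← map_comap_eq_self_of_surjective hfs (normalizer (X : Set (G ⧸ V)))]
        exact map_mono (le_normalizer_comap f)
      · refine lt_of_le_of_ne (fun v hv => ?_) fun he => hXb ?_
        · rw [mem_comap, hf, QuotientGroup.mk'_apply, (QuotientGroup.eq_one_iff v).mpr hv]
          exact one_mem _
        · rw [← map_comap_eq_self_of_surjective hfs X, ← he,
            (Subgroup.map_eq_bot_iff _).mpr (by rw [QuotientGroup.ker_mk'])]
      · rw [← hPc]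
        refine le_trans (comap_mono ?_) (le_normalizer_comap f)
        refine le_trans (fun x hx => ?_) (F.normalizer_le _ (D.map f))
        exact PLocalB.mem_normalizer_of_conj_mem _ x fun d hd =>
          hsc.2 d hd x (mul_mem (mul_mem hx (hsc.1 hd)) (inv_mem hx))
  · rintro G _ _ P N _ hN ⟨D, hD, hT⟩
    set f := QuotientGroup.mk' N with hf
    have hfs := QuotientGroup.mk'_surjective N
    have hinjP : Set.InjOn f ((P : Subgroup G) : Set G) := by
      intro x hx y hy hxy
      have h0 : x⁻¹ * y ∈ (P : Subgroup G) ⊓ N :=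
        ⟨(P : Subgroup G).mul_mem ((P : Subgroup G).inv_mem hx) hy, QuotientGroup.eq.mp hxy⟩
      rw [Thompson.inf_eq_bot_of_isPGroup_of_coprime P.2 hN, mem_bot, inv_mul_eq_one] at h0
      exact h0
    have hinj : Set.InjOn f (D : Set G) := hinjP.mono hD.1
    refine ⟨D.map f, ⟨map_mono hD.1, ?_⟩, ?_⟩
    · rintro _ ⟨x, hx, rfl⟩ gb hg
      obtain ⟨g, rfl⟩ := hfs gb
      set y := g * x * g⁻¹ with hy
      have hPN : (P : Subgroup G) ≤ (P : Subgroup G) ⊔ N := le_sup_left
      have hymem : y ∈ (P : Subgroup G) ⊔ N := by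
        rw [← QuotientGroup.ker_mk' N, ← comap_map_eq, mem_comap, hy, map_mul, map_mul, map_inv]
        exact hg
      have hyp : IsPGroup p (zpowers y) := by
        have := (LAE65.isPGroup_zpowers_of_mem (P.2) (hD.1 hx)).map (MulAut.conj g).toMonoidHom
        rwa [MonoidHom.map_zpowers] at this
      obtain ⟨a, ha, hle⟩ := LAE65.exists_conj_le_in (zpowers_le.mpr hymem) hyp hPN P.2
        (LAE65.not_dvd_relIndex_of_le P hPN)
      obtain ⟨u, hu, n, hn, rfl⟩ := mem_sup_of_normal_right.mp ha
      have h1 : u * n * y * (u * n)⁻¹ ∈ (P : Subgroup G) :=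
        hle (LAE65.conj_mem_map (mem_zpowers y))
      have h2 : n * y * n⁻¹ ∈ (P : Subgroup G) := by
        have := mul_mem (mul_mem (inv_mem hu) h1) hu
        simpa [mul_assoc] using this
      have h3 : n * y * n⁻¹ ∈ D := by
        have := hD.2 x hx (n * g) (by simpa [hy, mul_assoc] using h2)
        simpa [hy, mul_assoc] using this
      refine ⟨_, h3, ?_⟩
      rw [map_mul, map_mul, map_inv, hy, map_mul, map_mul, map_inv,
        show f n = 1 from (QuotientGroup.eq_one_iff n).mpr hn, one_mul, inv_one, mul_one]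
    · refine PComplement.hasNormalPComplement_of_le_map f ?_ hT
      intro x hx
      obtain ⟨g, rfl⟩ := hfs x
      rw [← F.map G (G ⧸ N) f D hinj] at hx
      obtain ⟨k, hk, hkg⟩ := PComplement.exists_mul_mem_normalizer_of_map P hN
        ((F.le G D).trans hD.1) hx
      exact ⟨k * g, hkg, by
        rw [map_mul, hf, QuotientGroup.mk'_apply N k, (QuotientGroup.eq_one_iff k).mpr hk, one_mul]⟩
  · rintro G _ _ P V K ⟨D, hD, hT⟩ h
    have hn := F.normal G P V K D h hD
    exact h.not_complement ((Transfer.hasNormalPComplement_congr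
      ((MulEquiv.subgroupCongr (normalizer_eq_top_iff.mpr hn)).trans topEquiv)).mp hT)

/-- Reduced groups are `p`-stable for the elements of the Sylow subgroup. -/
theorem reduced_stable (hp2 : p ≠ 2) {G : Type u} [Group G] [Finite G] {P : Sylow p G}
    {V K : Subgroup G} (h : PComplement.IsReduced p (P : Subgroup G) V K) (B : Subgroup G)
    [B.Normal] (hB : IsPGroup p B) {a : G} (ha : a ∈ (P : Subgroup G))
    (hq : ⁅⁅B, zpowers a⁆, zpowers a⁆ = ⊥) :
    (QuotientGroup.mk a : G ⧸ centralizer (B : Set G)) ∈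
      Cfsg.pCore p (G ⧸ centralizer (B : Set G)) := by
  have hBV : B ≤ V := h.eq_pCore ▸ Thompson.le_pCore inferInstance hB
  rcases h.le_or_coprime_mem (centralizer (B : Set G)) with hC | hC
  · have haV : a ∈ V := h.mem_of_quadratic hp2 hBV hC ha fun b hb => by
      rw [← mem_bot, ← hq]
      exact commutator_mem_commutator (commutator_mem_commutator hb (mem_zpowers a)) (mem_zpowers a)
    have hVn : V.Normal := h.eq_pCore ▸ inferInstance
    exact Thompson.le_pCore (hVn.map _ (QuotientGroup.mk'_surjective (centralizer (B : Set G))))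
      ((P.2.to_le h.le_sylow).map _) (mem_map_of_mem (QuotientGroup.mk' _) haV)
  · have h1 : IsPGroup p (G ⧸ centralizer (B : Set G)) :=
      Transfer.isPGroup_quotient_of_pResidual_le (Transfer.pResidual_le_iff.mpr hC)
    exact Thompson.le_pCore inferInstance (h1.to_subgroup ⊤) (mem_top _)

/-- `Z(J(D))`, abelian version. -/
def centreA (hp2 : p ≠ 2) : CentreFunctor.{u} p where
  X G _ D := Cfsg.centerThompsonAOf D
  le _ _ _ D := PLocalB.centerThompsonAOf_le D
  ne_bot _ _ _ D hD hne := PLocalB.centerThompsonAOf_ne_bot hD hne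
  normalizer_le G _ _ D := by
    rw [PLocalB.centerThompsonAOf_eq_core]
    exact (PLocalB.abelianFamily G).normalizer_le_core D
  map _ _ _ _ _ _ f D hf := PLocalB.centerThompsonAOf_map f D hf
  normal G _ _ P V K D h hD := by
    rw [PLocalB.centerThompsonAOf_eq_core]
    exact core_normal_of_stronglyClosed (PLocalB.abelianFamily G) hp2
      (h.eq_pCore ▸ h.centralizer_le) P (fun B _ hB a ha hq => reduced_stable hp2 h B hB ha hq)
      hD.1 hD.2

omit hp in
theorem omegaOne_map_injOn {G H : Type*} [Group G] [Group H] (f : G →* H) {E : Subgroup G}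
    (hf : Set.InjOn f E) : (Cfsg.omegaOne p E).map f = Cfsg.omegaOne p (E.map f) := by
  rw [Cfsg.omegaOne, Cfsg.omegaOne, MonoidHom.map_closure]
  congr 1
  ext y
  constructor
  · rintro ⟨x, ⟨hx, hxp⟩, rfl⟩
    exact ⟨⟨x, hx, rfl⟩, by rw [← map_pow, hxp, map_one]⟩
  · rintro ⟨⟨x, hx, rfl⟩, hxp⟩
    exact ⟨x, ⟨hx, hf (E.pow_mem hx p) (one_mem E) (by rw [map_pow, hxp, map_one])⟩, rfl⟩

/-- `Ω₁(Z(J_e(D)))`. -/
def centreE (hp2 : p ≠ 2) : CentreFunctor.{u} p where
  X G _ D := Cfsg.omegaOne p (Cfsg.centerThompsonOf p D)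
  le G _ _ D := by
    rw [Cfsg.centerThompsonOf, PLocalB.omega_center_eq_core]
    exact (PLocalB.elementaryFamily p G).core_le D
  ne_bot G _ _ D hD hne := by
    intro hb
    have hne' := PComplement.centerThompsonOf_ne_bot hD hne
    have hp' : IsPGroup p (Cfsg.centerThompsonOf p D) :=
      hD.to_le fun z hz => Thompson.thompsonSubgroupOf_le D hz.1
    haveI : Nontrivial (Cfsg.centerThompsonOf p D) := (nontrivial_iff_ne_bot _).mpr hne'
    obtain ⟨z, hz⟩ := exists_prime_orderOf_dvd_card' (G := Cfsg.centerThompsonOf p D) p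
      (hp'.card_eq_or_dvd.resolve_left fun h => hne' (Subgroup.eq_bot_of_card_eq _ h))
    have hmem : (z : G) ∈ Cfsg.omegaOne p (Cfsg.centerThompsonOf p D) :=
      subset_closure ⟨z.2, by
        have h7 := congrArg Subtype.val (pow_orderOf_eq_one z)
        rw [hz] at h7
        simpa using h7⟩
    rw [hb, mem_bot] at hmem
    rw [show z = 1 from Subtype.ext hmem, orderOf_one] at hz
    exact hp.out.one_lt.ne hz
  normalizer_le G _ _ D := by
    rw [Cfsg.centerThompsonOf, PLocalB.omega_center_eq_core]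
    exact (PLocalB.elementaryFamily p G).normalizer_le_core D
  map _ _ _ _ _ _ f D hf := by
    rw [omegaOne_map_injOn f (hf.mono fun z (hz : z ∈ Cfsg.centerThompsonOf p D) => Thompson.thompsonSubgroupOf_le D hz.1),
      PComplement.centerThompsonOf_map f D hf]
  normal G _ _ P V K D h hD := by
    rw [Cfsg.centerThompsonOf, PLocalB.omega_center_eq_core]
    exact core_normal_of_stronglyClosed (PLocalB.elementaryFamily p G) hp2
      (h.eq_pCore ▸ h.centralizer_le) P (fun B _ hB a ha hq => reduced_stable hp2 h B hB ha hq)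
      hD.1 hD.2

end Cfsg.Agent.LocalEvenD
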