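import Mathlib.GroupTheory.GroupAction.Quotient
import Mathlib.Data.Set.Finite.Lattice
import Mathlib.Algebra.BigOperators.Group.Finset.Basic
import Mathlib.Algebra.Order.BigOperators.Group.Finset
import Mathlib.GroupTheory.Index

/-!
# Finite groups in which each nontrivial element fixes exactly two points

At most twelve points have a stabilizer of order at least four, at most two of order at least six.
-/

set_option autoImplicit false

namespace Cfsg.Agent.LocalEvenD

open MulAction

theorem two_fixed_bound {X Ω : Type*} [Group X] [Finite X] [MulAction X Ω]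
    (h2 : ∀ g : X, g ≠ 1 → ∃ a b : Ω, a ≠ b ∧ ∀ w, g • w = w ↔ w = a ∨ w = b)
    (B : Finset Ω) (hB : ∀ b ∈ B, 4 ≤ Nat.card (stabilizer X b)) :
    B.card ≤ 12 ∧ ((∀ b ∈ B, 6 ≤ Nat.card (stabilizer X b)) → B.card ≤ 2) := by
  classical
  haveI := Fintype.ofFinite X
  have hfinfix : ∀ g : X, {w : Ω | g ≠ 1 ∧ g • w = w}.Finite := by
    intro g
    by_cases hg : g = 1
    · subst hg
      simp
    · obtain ⟨a, b, -, h⟩ := h2 g hg
      exact ((Set.finite_singleton b).insert a).subset fun w hw => (h w).1 hw.2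
  set s : Finset Ω := (Set.finite_iUnion hfinfix).toFinset with hs_def
  have hs : ∀ w, w ∈ s ↔ ∃ g : X, g ≠ 1 ∧ g • w = w := by
    intro w
    simp [hs_def]
  set N := Nat.card X with hN
  have hN0 : 0 < N := Nat.card_pos
  let T : Ω → Finset X := fun w => (Finset.univ.erase 1).filter fun g => g • w = w
  have hT : ∀ w, (T w).card + 1 = Nat.card (stabilizer X w) := by
    intro w
    have e : insert (1 : X) (T w) = Finset.univ.filter fun g => g • w = w := by
      ext g
      by_cases hg : g = 1
      · subst hg; simp [T]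
      · simp [T, hg]
    have h1 : (1 : X) ∉ T w := by simp [T]
    rw [← Finset.card_insert_of_notMem h1, e, Nat.card_eq_fintype_card, Fintype.card_subtype]
    simp only [mem_stabilizer_iff]
  have hpair : ∀ g ∈ (Finset.univ.erase (1 : X)), (s.filter fun w => g • w = w).card = 2 := by
    intro g hg
    have hg1 : g ≠ 1 := (Finset.mem_erase.1 hg).1
    obtain ⟨a, b, hab, h⟩ := h2 g hg1
    have e : (s.filter fun w => g • w = w) = {a, b} := by
      ext w
      simp only [Finset.mem_filter, Finset.mem_insert, Finset.mem_singleton, ← h w, hs]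
      exact ⟨fun h => h.2, fun h => ⟨⟨g, hg1, h⟩, h⟩⟩
    rw [e, Finset.card_pair hab]
  have hcount : ∑ w ∈ s, (T w).card + 2 = 2 * N := by
    have : ∑ w ∈ s, (T w).card = ∑ g ∈ Finset.univ.erase (1 : X), (s.filter fun w => g • w = w).card := by
      simp only [T, Finset.card_filter]
      exact Finset.sum_comm
    rw [this, Finset.sum_const_nat hpair, Finset.card_erase_of_mem (Finset.mem_univ _),
      Finset.card_univ, ← Nat.card_eq_fintype_card, ← hN]
    omega
  let O : Ω → Finset Ω := fun w => Finset.univ.image fun g : X => g • w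
  have hO_mem : ∀ {w v : Ω}, v ∈ O w ↔ ∃ g : X, g • w = v := fun {w v} => by simp [O]
  have hO_self : ∀ w, w ∈ O w := fun w => hO_mem.2 ⟨1, one_smul _ _⟩
  have hO_eq : ∀ {w v u : Ω}, u ∈ O w → u ∈ O v → O w = O v := by
    intro w v u h1 h2
    obtain ⟨g, rfl⟩ := hO_mem.1 h1
    obtain ⟨k, hk⟩ := hO_mem.1 h2
    ext x
    rw [hO_mem, hO_mem]
    constructor
    · rintro ⟨a, rfl⟩
      exact ⟨a * g⁻¹ * k, by rw [mul_smul, hk, mul_smul, inv_smul_smul]⟩
    · rintro ⟨a, rfl⟩
      refine ⟨a * k⁻¹ * g, ?_⟩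
      rw [mul_smul, ← hk, mul_smul, inv_smul_smul]
  have hO_disj : ∀ {w v : Ω}, v ∉ O w → Disjoint (O w) (O v) := by
    intro w v h
    rw [Finset.disjoint_left]
    intro x hxw hxv
    exact h (hO_eq hxw hxv ▸ hO_self v)
  have hcard : ∀ w, (O w).card * Nat.card (stabilizer X w) = N := by
    intro w
    have e : (O w).card = (stabilizer X w).index := by
      rw [index_stabilizer, ← Set.ncard_coe_finset]
      congr 1
      ext x
      simp [O, orbit]
    rw [e, hN, Subgroup.index_mul_card]
  have hO_sub : ∀ {w}, w ∈ s → O w ⊆ s := by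
    intro w hw v hv
    obtain ⟨k, rfl⟩ := hO_mem.1 hv
    obtain ⟨g, hg, hgw⟩ := (hs w).1 hw
    refine (hs _).2 ⟨k * g * k⁻¹, ?_, by rw [mul_smul, mul_smul, inv_smul_smul, hgw]⟩
    intro h
    exact hg (by simpa [mul_assoc] using congrArg (fun x => k⁻¹ * x * k) h)
  have hsum : ∀ w, ∑ v ∈ O w, (T v).card + (O w).card = N := by
    intro w
    have e : ∀ v ∈ O w, (T v).card + 1 = Nat.card (stabilizer X w) := by
      intro v hv
      obtain ⟨k, rfl⟩ := hO_mem.1 hv
      rw [hT]
      exact (Nat.card_congr (stabilizerEquivStabilizer (g := k) rfl).toEquiv).symm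
    calc ∑ v ∈ O w, (T v).card + (O w).card = ∑ v ∈ O w, ((T v).card + 1) := by
          rw [Finset.sum_add_distrib, Finset.sum_const, smul_eq_mul, mul_one]
      _ = N := by rw [Finset.sum_const_nat e, hcard]
  have hbig : ∀ {w : Ω}, 4 ≤ Nat.card (stabilizer X w) → w ∈ s ∧ 4 * (O w).card ≤ N := by
    intro w hw
    constructor
    · have : 0 < (T w).card := by have := hT w; omega
      obtain ⟨g, hg⟩ := Finset.card_pos.1 this
      simp only [T, Finset.mem_filter, Finset.mem_erase] at hg
      exact (hs w).2 ⟨g, hg.1.1, hg.2⟩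
    · rw [← hcard w, mul_comm (O w).card]
      exact Nat.mul_le_mul_right _ hw
  have hsmall : ∀ {w : Ω}, w ∈ s →
      2 * (O w).card = N ∨ 3 * (O w).card = N ∨ 4 * (O w).card ≤ N := by
    intro w hw
    have h1 := hcard w
    have h2' : 2 ≤ Nat.card (stabilizer X w) := by
      obtain ⟨g, hg, hgw⟩ := (hs w).1 hw
      have : 0 < (T w).card := Finset.card_pos.2 ⟨g, by simp [T, hg, hgw]⟩
      have := hT w
      omega
    by_cases h4 : 4 ≤ Nat.card (stabilizer X w)
    · exact Or.inr (Or.inr (hbig h4).2)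
    · have h23 : Nat.card (stabilizer X w) = 2 ∨ Nat.card (stabilizer X w) = 3 := by omega
      rcases h23 with h | h <;> rw [h, mul_comm] at h1
      · exact Or.inl h1
      · exact Or.inr (Or.inl h1)
  have hpos : ∀ w, 0 < (O w).card := fun w => Finset.card_pos.2 ⟨w, hO_self w⟩
  have hsub_sum : ∀ U : Finset Ω, U ⊆ s → ∑ w ∈ U, (T w).card + 2 ≤ 2 * N := by
    intro U hU
    have := Finset.sum_le_sum_of_subset (f := fun w => (T w).card) hU
    omega
  rcases B.eq_empty_or_nonempty with rfl | ⟨w₁, hw₁⟩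
  · simp
  obtain ⟨h1s, h14⟩ := hbig (hB w₁ hw₁)
  have hsum1 := hsum w₁
  by_cases hone : ∀ b ∈ B, b ∈ O w₁
  swap
  · -- two big orbits: only two points
    push Not at hone
    obtain ⟨v, hv, hne⟩ := hone
    obtain ⟨hvs, hv4⟩ := hbig (hB v hv)
    have hd := hO_disj hne
    have hsvv := hsum v
    have hcov : s = O w₁ ∪ O v := by
      refine (Finset.union_subset (hO_sub h1s) (hO_sub hvs)).antisymm' ?_
      intro x hx
      by_contra hxn
      rw [Finset.mem_union, not_or] at hxn
      have hd1 : Disjoint (O w₁ ∪ O v) (O x) :=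
        Finset.disjoint_union_left.2 ⟨hO_disj hxn.1, hO_disj hxn.2⟩
      have h := hsub_sum (O w₁ ∪ O v ∪ O x)
        (Finset.union_subset (Finset.union_subset (hO_sub h1s) (hO_sub hvs)) (hO_sub hx))
      rw [Finset.sum_union hd1, Finset.sum_union hd] at h
      have := hsum x
      rcases hsmall hx with h' | h' | h' <;> omega
    have hcount' := hcount
    rw [hcov, Finset.sum_union hd] at hcount'
    have := hpos w₁
    have := hpos v
    have hBsub : B ⊆ O w₁ ∪ O v := fun b hb => hcov ▸ (hbig (hB b hb)).1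
    have h3 := Finset.card_le_card hBsub
    rw [Finset.card_union_of_disjoint hd] at h3
    exact ⟨by omega, fun _ => by omega⟩
  -- one big orbit
  have hBo : B.card ≤ (O w₁).card := Finset.card_le_card hone
  by_cases hle : (O w₁).card ≤ 2
  · exact ⟨by omega, fun _ => by omega⟩
  obtain ⟨u, hu, hu'⟩ : ∃ u ∈ s, u ∉ O w₁ := by
    by_contra h
    push Not at h
    have e : s = O w₁ := (Finset.Subset.antisymm (hO_sub h1s) h).symm
    rw [e] at hcount
    omega
  have hsumu := hsum u
  have hdu := hO_disj hu'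
  have hposu := hpos u
  obtain ⟨v, hv, hv'⟩ : ∃ v ∈ s, v ∉ O w₁ ∪ O u := by
    by_contra h
    push Not at h
    have e : s = O w₁ ∪ O u :=
      (Finset.Subset.antisymm (Finset.union_subset (hO_sub h1s) (hO_sub hu)) h).symm
    rw [e, Finset.sum_union hdu] at hcount
    omega
  rw [Finset.mem_union, not_or] at hv'
  have hsumv := hsum v
  have hdv : Disjoint (O w₁ ∪ O u) (O v) :=
    Finset.disjoint_union_left.2 ⟨hO_disj hv'.1, hO_disj hv'.2⟩
  have hU : O w₁ ∪ O u ∪ O v ⊆ s :=
    Finset.union_subset (Finset.union_subset (hO_sub h1s) (hO_sub hu)) (hO_sub hv)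
  have hcov : s = O w₁ ∪ O u ∪ O v := by
    refine hU.antisymm' ?_
    intro x hx
    by_contra hxn
    rw [Finset.mem_union, Finset.mem_union, not_or, not_or] at hxn
    have hdx : Disjoint (O w₁ ∪ O u ∪ O v) (O x) :=
      Finset.disjoint_union_left.2 ⟨Finset.disjoint_union_left.2
        ⟨hO_disj hxn.1.1, hO_disj hxn.1.2⟩, hO_disj hxn.2⟩
    have h := hsub_sum (O w₁ ∪ O u ∪ O v ∪ O x) (Finset.union_subset hU (hO_sub hx))
    rw [Finset.sum_union hdx, Finset.sum_union hdv, Finset.sum_union hdu] at h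
    have := hsum x
    rcases hsmall hu with h' | h' | h' <;> rcases hsmall hv with h'' | h'' | h'' <;>
      rcases hsmall hx with h3 | h3 | h3 <;> omega
  rw [hcov, Finset.sum_union hdv, Finset.sum_union hdu] at hcount
  have h1c := hcard w₁
  have hn : Nat.card (stabilizer X w₁) = 4 ∨ Nat.card (stabilizer X w₁) = 5 ∨
      6 * (O w₁).card ≤ N := by
    rcases Nat.lt_or_ge (Nat.card (stabilizer X w₁)) 6 with h | h
    · have := hB w₁ hw₁; omega
    · refine Or.inr (Or.inr ?_)
      rw [← h1c, mul_comm (O w₁).card]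
      exact Nat.mul_le_mul_right _ h
  constructor
  · rcases hn with h | h | h <;> (try rw [h] at h1c) <;>
      rcases hsmall hu with h' | h' | h' <;> rcases hsmall hv with h'' | h'' | h'' <;> omega
  · intro h6
    have h16 : 6 * (O w₁).card ≤ N := by
      rw [← h1c, mul_comm (O w₁).card]
      exact Nat.mul_le_mul_right _ (h6 w₁ hw₁)
    rcases hsmall hu with h' | h' | h' <;> rcases hsmall hv with h'' | h'' | h'' <;> omega

end Cfsg.Agent.LocalEvenD
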