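import Cfsg.Agent.LocalEvenD.ExtraCube
import Cfsg.Agent.LocalEvenD.TwoFixed
import Cfsg.Agent.LAE65.Basic
import Mathlib.Algebra.Module.ZMod
import Mathlib.LinearAlgebra.Matrix.ToLin
import Mathlib.LinearAlgebra.Eigenspace.Basic
import Mathlib.LinearAlgebra.Eigenspace.Triangularizable
import Mathlib.LinearAlgebra.Dimension.Finrank
import Mathlib.FieldTheory.IsAlgClosed.AlgebraicClosure
import Mathlib.Algebra.CharP.Algebra
import Mathlib.Algebra.Field.ZMod
import Mathlib.RingTheory.ZMod.UnitsCyclic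

/-!
# The action of `N(P)` on the lines of `P / Z(P)` for `P` extraspecial of order `p ^ 3`
-/

set_option autoImplicit false
set_option linter.style.haveILetI false

namespace Cfsg.Agent.LocalEvenD

section Linear

variable {K : Type*} [Field K] [IsAlgClosed K]

theorem eigenlines_two (f : (Fin 2 → K) →ₗ[K] (Fin 2 → K)) {m : ℕ} (hm : (m : K) ≠ 0)
    (hf : f ^ m = 1) :
    (∃ μ : K, ∀ v, f v = μ • v) ∨
    ∃ v₁ v₂ : Fin 2 → K, v₁ ≠ 0 ∧ v₂ ≠ 0 ∧
      Submodule.span K {v₁} ≠ Submodule.span K {v₂} ∧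
      (∃ μ : K, f v₁ = μ • v₁) ∧ (∃ μ : K, f v₂ = μ • v₂) ∧
      ∀ v : Fin 2 → K, v ≠ 0 → (∃ μ : K, f v = μ • v) →
        Submodule.span K {v} = Submodule.span K {v₁} ∨ Submodule.span K {v} = Submodule.span K {v₂} := by
  obtain ⟨a, ha⟩ := Module.End.exists_eigenvalue f
  obtain ⟨v₁, hv₁⟩ := ha.exists_hasEigenvector
  have h1 : f v₁ = a • v₁ := hv₁.apply_eq_smul
  have hv0 : v₁ ≠ 0 := hv₁.2
  obtain ⟨w, hw⟩ : ∃ w, w ∉ Submodule.span K {v₁} := by
    by_contra h
    push Not at h
    have htop : Submodule.span K {v₁} = ⊤ := Submodule.eq_top_iff'.2 h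
    have h2 := finrank_span_singleton (K := K) hv0
    rw [htop, finrank_top, Module.finrank_fin_fun] at h2
    omega
  have hli : LinearIndependent K ![v₁, w] := by
    rw [LinearIndependent.pair_iff' hv0]
    intro c hc
    exact hw (hc ▸ Submodule.smul_mem _ c (Submodule.mem_span_singleton_self v₁))
  have hspan := hli.span_eq_top_of_card_eq_finrank (by simp)
  have hdec : ∀ x, ∃ α β : K, α • v₁ + β • w = x := by
    intro x
    have hx : x ∈ Submodule.span K (Set.range ![v₁, w]) := hspan ▸ Submodule.mem_top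
    rw [Matrix.range_cons, Matrix.range_cons, Matrix.range_empty, Set.union_empty,
      Set.singleton_union, Submodule.mem_span_pair] at hx
    exact hx
  obtain ⟨c, b, hfw⟩ := hdec (f w)
  by_cases hba : b = a
  · subst hba
    left
    have hiter : ∀ k : ℕ, (f ^ (k + 1)) w = b ^ (k + 1) • w + ((k + 1 : ℕ) * b ^ k * c) • v₁ := by
      intro k
      induction k with
      | zero => simp [← hfw, add_comm]
      | succ k ih =>
        rw [pow_succ', Module.End.mul_apply, ih, map_add, map_smul, map_smul, h1, ← hfw, smul_add,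
          smul_smul, smul_smul, smul_smul]
        push_cast
        rw [add_comm ((b ^ (k + 1) * c) • v₁), add_assoc, ← add_smul]
        congr 1
        · rw [← pow_succ]
        · congr 1
          ring
    obtain ⟨k, rfl⟩ := Nat.exists_eq_succ_of_ne_zero (fun h : m = 0 => hm (by simp [h]))
    have hk := hiter k
    rw [Nat.succ_eq_add_one] at hf hm
    rw [hf, Module.End.one_apply] at hk
    have hzero : (1 - b ^ (k + 1)) • w + (-(((k + 1 : ℕ) : K) * b ^ k * c)) • v₁ = 0 := by
      have h4 := sub_eq_zero.2 hk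
      rw [sub_smul, one_smul, neg_smul]
      rw [← h4]
      abel
    rw [add_comm] at hzero
    have h3 := LinearIndependent.pair_iff.1 hli _ _ hzero
    have hb0 : b ≠ 0 := by
      intro hb
      rw [hb, zero_pow (Nat.succ_ne_zero k), sub_zero] at h3
      exact one_ne_zero h3.2
    have hc : c = 0 := by
      have := neg_eq_zero.1 h3.1
      exact (mul_eq_zero.1 this).resolve_left (mul_ne_zero hm (pow_ne_zero k hb0))
    refine ⟨b, fun v => ?_⟩
    obtain ⟨α, β, rfl⟩ := hdec v
    rw [map_add, map_smul, map_smul, h1, ← hfw, hc, zero_smul, zero_add, smul_add, smul_comm b α,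
      smul_comm b β]
  · right
    have hd : b - a ≠ 0 := sub_ne_zero.2 hba
    obtain ⟨u, hu⟩ : ∃ u, u = w + (c / (b - a)) • v₁ := ⟨_, rfl⟩
    have hfu : f u = b • u := by
      rw [hu, map_add, map_smul, h1, ← hfw, smul_add, smul_smul, smul_smul]
      have e : c + c / (b - a) * a = b * (c / (b - a)) := by field_simp; ring
      rw [← e, add_smul]
      abel
    have hu0 : u ≠ 0 := by
      intro h
      refine hw ?_
      have : w = -((c / (b - a)) • v₁) := eq_neg_of_add_eq_zero_left (hu ▸ h)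
      rw [this]
      exact Submodule.neg_mem _ (Submodule.smul_mem _ _ (Submodule.mem_span_singleton_self v₁))
    refine ⟨v₁, u, hv0, hu0, ?_, ⟨a, h1⟩, ⟨b, hfu⟩, ?_⟩
    · intro h
      refine hw ?_
      have humem : u ∈ Submodule.span K {v₁} := h ▸ Submodule.mem_span_singleton_self u
      have := Submodule.sub_mem _ humem
        (Submodule.smul_mem _ (c / (b - a)) (Submodule.mem_span_singleton_self v₁))
      simpa [hu] using this
    · rintro v hv ⟨ν, hν⟩
      obtain ⟨α, β, rfl⟩ := hdec v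
      have e : α • v₁ + β • w = (α - β * (c / (b - a))) • v₁ + β • u := by
        rw [hu, smul_add, smul_smul, sub_smul]; abel
      rw [e] at hν hv ⊢
      set α' := α - β * (c / (b - a))
      have hlin : (α' * a - ν * α') • v₁ + (β * b - ν * β) • u = 0 := by
        rw [map_add, map_smul, map_smul, h1, hfu, smul_add, smul_smul, smul_smul, smul_smul,
          smul_smul, ← sub_eq_zero] at hν
        rw [sub_smul, sub_smul, ← hν]; abel
      have hli2 : LinearIndependent K ![v₁, u] := by
        rw [LinearIndependent.pair_iff' hv0]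
        intro d hd'
        refine hw ?_
        have : w = u - (c / (b - a)) • v₁ := by rw [hu]; abel
        rw [this, ← hd']
        exact Submodule.sub_mem _ (Submodule.smul_mem _ _ (Submodule.mem_span_singleton_self v₁))
          (Submodule.smul_mem _ _ (Submodule.mem_span_singleton_self v₁))
      obtain ⟨e1, e2⟩ := LinearIndependent.pair_iff.1 hli2 _ _ hlin
      have e1' : α' * (a - ν) = 0 := by rw [← e1]; ring
      have e2' : β * (b - ν) = 0 := by rw [← e2]; ring
      by_cases hβ : β = 0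
      · rw [hβ, zero_smul, add_zero] at hv ⊢
        exact Or.inl (Submodule.span_singleton_smul_eq
          (Ne.isUnit fun h => hv (by rw [h, zero_smul])) _)
      · have hνb : b = ν := sub_eq_zero.1 ((mul_eq_zero.1 e2').resolve_left hβ)
        have hα : α' = 0 := (mul_eq_zero.1 e1').resolve_right
          fun h => hba (by rw [hνb, ← sub_eq_zero.1 h])
        rw [hα, zero_smul, zero_add]
        exact Or.inr (Submodule.span_singleton_smul_eq (Ne.isUnit hβ) _)

end Linear

theorem conj_pow_shift {G : Type*} [Group G] {g x y : G}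
    (hy : g * y * g⁻¹ = y) (hx : g * x * g⁻¹ = x * y) (n : ℕ) :
    g ^ n * x * (g ^ n)⁻¹ = x * y ^ n ∧ g ^ n * y * (g ^ n)⁻¹ = y := by
  induction n with
  | zero => simp
  | succ n ih =>
    have e : ∀ w : G, g ^ (n + 1) * w * (g ^ (n + 1))⁻¹ = g * (g ^ n * w * (g ^ n)⁻¹) * g⁻¹ :=
      fun w => by rw [pow_succ']; group
    refine ⟨?_, by rw [e, ih.2, hy]⟩
    rw [e, ih.1]
    calc g * (x * y ^ n) * g⁻¹ = (g * x * g⁻¹) * (g * y * g⁻¹) ^ n := by rw [conj_pow]; group
      _ = x * y ^ (n + 1) := by rw [hx, hy, pow_succ']; group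

theorem pow_eq_one_of_nat_dvd {G : Type*} [Group G] {p k : ℕ} {x : G} (hx : x ^ p = 1)
    (h : p ∣ k) : x ^ k = 1 := by
  obtain ⟨c, rfl⟩ := h
  rw [pow_mul, hx, one_pow]

section Group

variable {G : Type*} [Group G] [Finite G] {p : ℕ} [hp : Fact p.Prime] (P : Sylow p G)

/-- The diagonal element of `N(P)` obtained from two opposite transvections. -/
theorem exists_diag (hE : Cfsg.IsExtraspecial p (P : Subgroup G))
    (hexp : ∀ x ∈ (P : Subgroup G), x ^ p = 1) {a z : (P : Subgroup G)}
    (hz : z ∈ Subgroup.center (P : Subgroup G)) (ha : a ∉ Subgroup.center (P : Subgroup G))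
    {gl : G} (hla : gl * (a : G) * gl⁻¹ = a) (hlz : gl * (z : G) * gl⁻¹ = z * a)
    {t m : ℕ} (htm : p ∣ 1 + t * m) :
    ∃ g ∈ Subgroup.normalizer ((P : Subgroup G) : Set G), g * (z : G) * g⁻¹ = (z : G) ^ t ∧
      ∃ c ∈ Subgroup.center (P : Subgroup G), g * (a : G) * g⁻¹ = ((a : G) ^ m)⁻¹ * c := by
  have haz : Commute (a : G) (z : G) :=
    (congrArg Subtype.val (Subgroup.mem_center_iff.1 hz a) : (a : G) * z = z * a)
  obtain ⟨u, hu⟩ := xs_exists_conj_eq hE ha hz
  set gu := (u : G) with hgu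
  have hua : gu * (a : G) * gu⁻¹ = (a : G) * z := congrArg Subtype.val hu
  have huz : gu * (z : G) * gu⁻¹ = z := by
    rw [mul_inv_eq_iff_eq_mul]
    exact congrArg Subtype.val (Subgroup.mem_center_iff.1 hz u)
  -- the three-factor elements
  let W : ℕ → ℕ → G := fun t m => gu ^ t * gl ^ m * gu ^ t
  have hW : ∀ t m : ℕ, p ∣ 1 + t * m →
      W t m * (z : G) * (W t m)⁻¹ = (a : G) ^ m ∧ W t m * (a : G) * (W t m)⁻¹ = (z : G) ^ t := by
    intro t m htm
    obtain ⟨hUa, hUz⟩ := conj_pow_shift huz hua t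
    obtain ⟨hLz, hLa⟩ := conj_pow_shift hla hlz m
    have hp1 : ∀ w : (P : Subgroup G), (w : G) ^ (1 + t * m) = 1 := fun w =>
      pow_eq_one_of_nat_dvd (hexp _ w.2) htm
    have e : ∀ w : G, W t m * w * (W t m)⁻¹ =
        gu ^ t * (gl ^ m * (gu ^ t * w * (gu ^ t)⁻¹) * (gl ^ m)⁻¹) * (gu ^ t)⁻¹ := fun w => by
      simp only [W]; group
    constructor
    · rw [e, hUz, hLz]
      calc gu ^ t * ((z : G) * (a : G) ^ m) * (gu ^ t)⁻¹
          = (gu ^ t * z * (gu ^ t)⁻¹) * (gu ^ t * a * (gu ^ t)⁻¹) ^ m := by rw [conj_pow]; group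
        _ = (a : G) ^ m * ((z : G) ^ (1 + t * m)) := by
            rw [hUz, hUa, (haz.pow_right t).mul_pow, ← pow_mul, pow_add, pow_one,
              ← mul_assoc (z : G), ((haz.pow_left m).symm).eq, mul_assoc]
        _ = _ := by rw [hp1 z, mul_one]
    · rw [e, hUa]
      have h1 : gl ^ m * ((a : G) * (z : G) ^ t) * (gl ^ m)⁻¹ = (z : G) ^ t := by
        calc gl ^ m * ((a : G) * (z : G) ^ t) * (gl ^ m)⁻¹
            = (gl ^ m * a * (gl ^ m)⁻¹) * (gl ^ m * z * (gl ^ m)⁻¹) ^ t := by rw [conj_pow]; group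
          _ = (z : G) ^ t * (a : G) ^ (1 + m * t) := by
              rw [hLa, hLz, (haz.symm.pow_right m).mul_pow, ← pow_mul, ← mul_assoc,
                (haz.pow_right t).eq, mul_assoc, pow_add, pow_one]
          _ = _ := by rw [mul_comm m t, hp1 a, mul_one]
      rw [h1, ← conj_pow, hUz]
  obtain ⟨hz1, ha1⟩ := hW t m htm
  have hp1 : p ∣ 1 + 1 * (p - 1) := by
    rw [one_mul, Nat.add_sub_cancel' hp.out.one_le]
  obtain ⟨hz0, ha0⟩ := hW 1 (p - 1) hp1
  rw [pow_one] at ha0
  set w := W t m with hw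
  set w₀ := W 1 (p - 1) with hw₀
  set g := w * w₀⁻¹ with hg
  have hgz : g * (z : G) * g⁻¹ = (z : G) ^ t := by
    have h3 : w₀⁻¹ * (z : G) * w₀ = (a : G) := by
      conv_lhs => rw [← ha0]
      group
    calc g * (z : G) * g⁻¹ = w * (w₀⁻¹ * z * w₀) * w⁻¹ := by rw [hg]; group
      _ = _ := by rw [h3, ha1]
  have hga : g * (a : G) * g⁻¹ = ((a : G) ^ m)⁻¹ := by
    have hainv : ((a : G) ^ (p - 1))⁻¹ = (a : G) := by
      rw [inv_eq_iff_mul_eq_one, ← pow_succ, Nat.sub_add_cancel hp.out.one_le]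
      exact hexp _ a.2
    have h3 : w₀⁻¹ * (a : G) * w₀ = (z : G)⁻¹ := by
      conv_lhs => rw [← hainv, ← hz0]
      group
    calc g * (a : G) * g⁻¹ = w * (w₀⁻¹ * a * w₀) * w⁻¹ := by rw [hg]; group
      _ = (w * z * w⁻¹)⁻¹ := by rw [h3]; group
      _ = _ := by rw [hz1]
  -- Frattini
  let K : Subgroup G :=
    { carrier := {h | h * (z : G) * h⁻¹ = z ∧
        ∃ i : ℤ, h * (a : G) * h⁻¹ = (a : G) * (z : G) ^ i}
      one_mem' := ⟨by simp, 0, by simp⟩
      mul_mem' := by
        rintro h k ⟨hhz, i, hha⟩ ⟨hkz, j, hka⟩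
        refine ⟨?_, i + j, ?_⟩
        · calc h * k * (z : G) * (h * k)⁻¹ = h * (k * z * k⁻¹) * h⁻¹ := by group
            _ = _ := by rw [hkz, hhz]
        · calc h * k * (a : G) * (h * k)⁻¹ = h * (k * a * k⁻¹) * h⁻¹ := by group
            _ = (h * a * h⁻¹) * (h * z * h⁻¹) ^ j := by rw [hka, conj_zpow]; group
            _ = _ := by rw [hha, hhz, zpow_add]; group
      inv_mem' := by
        rintro h ⟨hhz, i, hha⟩
        have e1 : h⁻¹ * (z : G) * h = z := by
          conv_lhs => rw [← hhz]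
          group
        refine ⟨by rw [inv_inv]; exact e1, -i, ?_⟩
        rw [inv_inv]
        have e2 : h⁻¹ * (a : G) * h * (h⁻¹ * z * h) ^ i = a := by
          have e4 : (h⁻¹ * (z : G) * h) ^ i = h⁻¹ * (z : G) ^ i * h := by
            conv_lhs => rw [show h⁻¹ * (z : G) * h = h⁻¹ * z * h⁻¹⁻¹ by rw [inv_inv], conj_zpow,
              inv_inv]
          rw [e4]
          calc h⁻¹ * (a : G) * h * (h⁻¹ * (z : G) ^ i * h) = h⁻¹ * (a * (z : G) ^ i) * h := by group
            _ = a := by rw [← hha]; group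
        rw [e1] at e2
        rw [zpow_neg, eq_mul_inv_iff_mul_eq, e2] }
  have hzcyc : ∀ c ∈ Subgroup.center (P : Subgroup G), ∃ i : ℤ, (c : G) = (z : G) ^ i := by
    intro c hc
    have hz1 : z ≠ 1 := by
      intro h
      rw [h, OneMemClass.coe_one, one_mul, mul_one, mul_inv_cancel] at hlz
      exact ha (by rw [show a = 1 from Subtype.ext hlz.symm]; exact one_mem _)
    have hle : Subgroup.zpowers z ≤ Subgroup.center (P : Subgroup G) := Subgroup.zpowers_le.2 hz
    have heq := Subgroup.eq_of_le_of_card_ge hle (by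
      rw [hE.2, Nat.card_zpowers, orderOf_eq_prime (Subtype.ext (hexp _ z.2)) hz1])
    obtain ⟨i, hi⟩ := Subgroup.mem_zpowers_iff.1 (heq ▸ hc : c ∈ Subgroup.zpowers z)
    exact ⟨i, by rw [← hi]; simp⟩
  have hPK : (P : Subgroup G) ≤ K := by
    intro x hx
    refine ⟨?_, ?_⟩
    · rw [mul_inv_eq_iff_eq_mul]
      exact congrArg Subtype.val (Subgroup.mem_center_iff.1 hz ⟨x, hx⟩)
    · have hc := xs_comm_mem_center hE ⟨x, hx⟩ a
      obtain ⟨i, hi⟩ := hzcyc _ hc
      refine ⟨i, ?_⟩
      have h5 := (congrArg Subtype.val (Subgroup.mem_center_iff.1 hc a)).symm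
      simp only [Subgroup.coe_mul, Subgroup.coe_inv] at h5 hi
      rw [← hi, ← h5]
      group
  have hgK : ∀ x ∈ (P : Subgroup G), g * x * g⁻¹ ∈ K := by
    intro x hx
    obtain ⟨hxz, i, hxa⟩ := hPK hx
    have hxz' : x * g⁻¹ * z * (x * g⁻¹)⁻¹ = g⁻¹ * z * g := by
      -- `g⁻¹ z g` is a power of `z`
      have : g⁻¹ * (z : G) * g ∈ Subgroup.zpowers (z : G) := by
        have hz1 : (z : G) ^ (t * m) * z = 1 := by
          rw [← pow_succ, add_comm]; exact pow_eq_one_of_nat_dvd (hexp _ z.2) htm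
        refine ⟨-(m : ℤ), ?_⟩
        show (z : G) ^ (-(m : ℤ)) = g⁻¹ * z * g
        have e : g * (z : G) ^ (-(m : ℤ)) * g⁻¹ = z := by
          rw [← conj_zpow, hgz, zpow_neg, zpow_natCast, ← pow_mul]
          exact inv_eq_of_mul_eq_one_right hz1
        conv_rhs => rw [← e]
        group
      obtain ⟨k, hk⟩ := this
      calc x * g⁻¹ * (z : G) * (x * g⁻¹)⁻¹ = x * (g⁻¹ * z * g) * x⁻¹ := by group
        _ = _ := by rw [← hk]; show x * (z : G) ^ k * x⁻¹ = (z : G) ^ k; rw [← conj_zpow, hxz]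
    refine ⟨?_, ?_⟩
    · calc g * x * g⁻¹ * (z : G) * (g * x * g⁻¹)⁻¹ = g * (x * g⁻¹ * z * (x * g⁻¹)⁻¹) * g⁻¹ := by
            group
        _ = _ := by rw [hxz']; group
    · -- `g⁻¹ a g` is a power of `a`
      have hat : g * (a : G) ^ t * g⁻¹ = a := by
        rw [← conj_pow, hga, inv_pow, ← pow_mul]
        refine inv_eq_of_mul_eq_one_left ?_
        rw [← pow_succ', add_comm, mul_comm m t]
        exact pow_eq_one_of_nat_dvd (hexp _ a.2) htm
      refine ⟨(t : ℤ) * (i * t), ?_⟩
      calc g * x * g⁻¹ * (a : G) * (g * x * g⁻¹)⁻¹ = g * x * (g⁻¹ * a * g) * x⁻¹ * g⁻¹ := by group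
        _ = g * (x * (a : G) ^ t * x⁻¹) * g⁻¹ := by conv_lhs => rw [← hat]
                                                    group
        _ = g * ((a : G) ^ t * ((z : G) ^ i) ^ t) * g⁻¹ := by
            rw [← conj_pow, hxa, (haz.zpow_right i).mul_pow]
        _ = (g * (a : G) ^ t * g⁻¹) * (g * (z : G) * g⁻¹) ^ (i * t) := by
            rw [conj_zpow, ← zpow_natCast ((z : G) ^ i), ← zpow_mul]; group
        _ = _ := by rw [hat, hgz, ← zpow_natCast, ← zpow_mul]
  -- the Sylow argument inside `K`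
  have hPg : (P : Subgroup G).map (MulAut.conj g).toMonoidHom ≤ K := by
    rintro _ ⟨x, hx, rfl⟩
    exact hgK x hx
  have hidx : ¬ p ∣ (P : Subgroup G).relIndex K := LAE65.not_dvd_relIndex_of_le P hPK
  have hidx' : ¬ p ∣ ((P : Subgroup G).map (MulAut.conj g).toMonoidHom).relIndex K := by
    intro hd
    have h1 := hd.trans (Subgroup.relIndex_dvd_index_of_le hPg)
    have h2 : ((P : Subgroup G).map (MulAut.conj g).toMonoidHom).index = (P : Subgroup G).index :=
      Subgroup.index_map_equiv (P : Subgroup G) (MulAut.conj g)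
    exact P.not_dvd_index (h2 ▸ h1)
  obtain ⟨k, hk, hkeq⟩ := LAE65.exists_conj_eq_in hPg hPK (P.2.map _) P.2 hidx' hidx
  rw [LAE65.map_conj_mul, ← LAE65.mem_normalizer_iff_map] at hkeq
  obtain ⟨hkz, i, hka⟩ := hk
  refine ⟨k * g, hkeq, ?_, (z ^ i : (P : Subgroup G))⁻¹ ^ m, ?_, ?_⟩
  · calc k * g * (z : G) * (k * g)⁻¹ = k * (g * z * g⁻¹) * k⁻¹ := by group
      _ = _ := by rw [hgz, ← conj_pow, hkz]
  · exact pow_mem (inv_mem (zpow_mem hz i)) m
  · calc k * g * (a : G) * (k * g)⁻¹ = k * (g * a * g⁻¹) * k⁻¹ := by group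
      _ = ((k * a * k⁻¹) ^ m)⁻¹ := by rw [hga, conj_pow]; group
      _ = _ := by
        rw [hka, (haz.zpow_right i).mul_pow, mul_inv_rev]
        simp only [SubmonoidClass.coe_pow, InvMemClass.coe_inv, SubgroupClass.coe_zpow, inv_pow]
        exact ((((haz.zpow_right i).pow_pow m m).inv_inv).symm).eq

section Coord

variable (hE : Cfsg.IsExtraspecial p (P : Subgroup G))
include hE

theorem exists_coord (hcard : Nat.card (P : Subgroup G) = p ^ 3) :
    ∃ co : ↥(P : Subgroup G) → Fin 2 → ZMod p, (∀ x y, co (x * y) = co x + co y) ∧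
      (∀ x, co x = 0 ↔ x ∈ Subgroup.center (P : Subgroup G)) ∧ Function.Surjective co := by
  set Z := Subgroup.center (P : Subgroup G) with hZ
  have hmk : ∀ x y : (P : Subgroup G), (QuotientGroup.mk x * QuotientGroup.mk y :
      (P : Subgroup G) ⧸ Z) = QuotientGroup.mk y * QuotientGroup.mk x := by
    intro x y
    rw [← QuotientGroup.mk_mul, ← QuotientGroup.mk_mul]
    refine (QuotientGroup.eq_iff_div_mem).2 ?_
    have := xs_comm_mem_center hE x y
    simpa [div_eq_mul_inv, mul_assoc] using this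
  letI : CommGroup ((P : Subgroup G) ⧸ Z) :=
    { (inferInstance : Group ((P : Subgroup G) ⧸ Z)) with
      mul_comm := fun a b => QuotientGroup.induction_on a fun x => QuotientGroup.induction_on b
        fun y => hmk x y }
  have hsm : ∀ v : Additive ((P : Subgroup G) ⧸ Z), p • v = 0 := by
    intro v
    obtain ⟨x, hx⟩ := QuotientGroup.mk_surjective (Additive.toMul v)
    apply Additive.toMul.injective
    rw [toMul_nsmul, toMul_zero, ← hx]
    exact (QuotientGroup.mk_pow Z x p).symm.trans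
      ((QuotientGroup.eq_one_iff _).2 (xs_pow_mem_center hE x))
  haveI : Module (ZMod p) (Additive ((P : Subgroup G) ⧸ Z)) := AddCommGroup.zmodModule hsm
  have hcardQ : Nat.card ((P : Subgroup G) ⧸ Z) = p ^ 2 := by
    have h1 := Subgroup.card_eq_card_quotient_mul_card_subgroup Z
    rw [hcard, hE.2, pow_succ] at h1
    exact (Nat.eq_of_mul_eq_mul_right hp.out.pos h1).symm
  have hfr : Module.finrank (ZMod p) (Additive ((P : Subgroup G) ⧸ Z)) = 2 := by
    have h1 := Module.natCard_eq_pow_finrank (K := ZMod p) (V := Additive ((P : Subgroup G) ⧸ Z))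
    rw [Nat.card_zmod, show Nat.card (Additive ((P : Subgroup G) ⧸ Z)) = p ^ 2 from hcardQ] at h1
    exact ((Nat.pow_right_injective hp.out.two_le) h1).symm
  let e := (Module.finBasisOfFinrankEq (ZMod p) _ hfr).equivFun
  refine ⟨fun x => e (Additive.ofMul (QuotientGroup.mk x)), fun x y => ?_, fun x => ?_, fun v => ?_⟩
  · rw [← map_add]
    rfl
  · rw [LinearEquiv.map_eq_zero_iff]
    exact QuotientGroup.eq_one_iff x
  · obtain ⟨x, hx⟩ := QuotientGroup.mk_surjective (Additive.toMul (e.symm v))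
    refine ⟨x, ?_⟩
    show e (Additive.ofMul (QuotientGroup.mk x)) = v
    rw [hx]
    exact e.apply_symm_apply v

end Coord

theorem planes_bound (hE : Cfsg.IsExtraspecial p (P : Subgroup G))
    (hcard : Nat.card (P : Subgroup G) = p ^ 3) (hexp : ∀ x ∈ (P : Subgroup G), x ^ p = 1)
    {z : (P : Subgroup G)} (hz : z ∈ Subgroup.center (P : Subgroup G))
    {ι : Type*} [Fintype ι] (a : ι → ↥(P : Subgroup G))
    (hanc : ∀ i, a i ∉ Subgroup.center (P : Subgroup G))
    (hind : ∀ i j, i ≠ j → ∀ n : ℕ, a j * (a i ^ n)⁻¹ ∉ Subgroup.center (P : Subgroup G))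
    (hl : ∀ i, ∃ gl : G, gl * (a i : G) * gl⁻¹ = a i ∧ gl * (z : G) * gl⁻¹ = z * a i)
    (hp11 : 11 ≤ p) : Fintype.card ι ≤ 12 ∧ ((17 ≤ p ∨ p = 11) → Fintype.card ι ≤ 2) := by
  classical
  obtain ⟨co, hco, hco0, hcos⟩ := exists_coord P hE hcard
  set N := Subgroup.normalizer ((P : Subgroup G) : Set G) with hN
  let cj : N → ↥(P : Subgroup G) → ↥(P : Subgroup G) := fun g x =>
    ⟨(g : G) * x * (g : G)⁻¹, (Subgroup.mem_normalizer_iff.1 g.2 x).1 x.2⟩
  have hcjmul : ∀ g x y, cj g (x * y) = cj g x * cj g y := fun g x y =>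
    Subtype.ext (by simp [cj, mul_assoc])
  have hco1 : co 1 = 0 := (hco0 1).2 (one_mem _)
  have hcoinv : ∀ x, co x⁻¹ = -co x := fun x => by
    rw [eq_neg_iff_add_eq_zero, ← hco, inv_mul_cancel, hco1]
  have hcopow : ∀ x (n : ℕ), co (x ^ n) = n • co x := by
    intro x n
    induction n with
    | zero => simp [hco1]
    | succ n ih => rw [pow_succ, hco, ih, succ_nsmul]
  have hnv : ∀ (r : ZMod p) (v : Fin 2 → ZMod p), r.val • v = r • v := fun r v => by
    rw [← Nat.cast_smul_eq_nsmul (ZMod p), ZMod.natCast_zmod_val]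
  have hwell : ∀ g x y, co x = co y → co (cj g x) = co (cj g y) := by
    intro g x y hxy
    have h1 : x * y⁻¹ ∈ Subgroup.center (P : Subgroup G) := by
      rw [← hco0, hco, hcoinv, hxy, add_neg_cancel]
    have h2 : cj g (x * y⁻¹) ∈ Subgroup.center (P : Subgroup G) := by
      rw [Subgroup.mem_center_iff]
      intro w
      have hw : cj g (cj g⁻¹ w) = w := Subtype.ext (by simp [cj, mul_assoc])
      rw [← hw, ← hcjmul, ← hcjmul, Subgroup.mem_center_iff.1 h1]
    have h3 : cj g x = cj g (x * y⁻¹) * cj g y := by rw [← hcjmul, inv_mul_cancel_right]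
    rw [h3, hco, (hco0 _).2 h2, zero_add]
  choose sec hsec using hcos
  have hmat : ∀ g : N, ∃ M : Matrix (Fin 2) (Fin 2) (ZMod p),
      ∀ x, M.mulVec (co x) = co (cj g x) := by
    intro g
    let h : (Fin 2 → ZMod p) →+ (Fin 2 → ZMod p) :=
      AddMonoidHom.mk' (fun v => co (cj g (sec v))) fun v w => by
        rw [← hco, ← hcjmul]
        exact hwell g _ _ (by rw [hsec, hco, hsec, hsec])
    refine ⟨LinearMap.toMatrix' (h.toZModLinearMap p), fun x => ?_⟩
    rw [← Matrix.toLin'_apply, Matrix.toLin'_toMatrix']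
    exact hwell g _ _ (hsec _)
  choose M hM using hmat
  have hMext : ∀ A B : Matrix (Fin 2) (Fin 2) (ZMod p),
      (∀ x, A.mulVec (co x) = B.mulVec (co x)) → A = B := fun A B h =>
    Matrix.ext_of_mulVec_single fun i => by
      rw [← hsec (Pi.single i 1)]
      exact h _
  let ρ : N →* Matrix (Fin 2) (Fin 2) (ZMod p) :=
    { toFun := M
      map_one' := hMext _ _ fun x => by
        rw [hM, Matrix.one_mulVec]
        exact congrArg co (Subtype.ext (by simp [cj]))
      map_mul' := fun g h => hMext _ _ fun x => by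
        rw [hM, ← Matrix.mulVec_mulVec, hM, hM]
        exact congrArg co (Subtype.ext (by simp [cj, mul_assoc])) }
  set K := AlgebraicClosure (ZMod p)
  haveI : CharP K p := charP_of_injective_algebraMap (algebraMap (ZMod p) K).injective p
  let F : N →* Module.End K (Fin 2 → K) :=
    (Matrix.toLinAlgEquiv' : Matrix (Fin 2) (Fin 2) K ≃ₐ[K] _).toMonoidHom.comp
      (((algebraMap (ZMod p) K).mapMatrix : Matrix (Fin 2) (Fin 2) (ZMod p) →+* _).toMonoidHom.comp ρ)
  let cK : ↥(P : Subgroup G) → Fin 2 → K := fun x i => algebraMap (ZMod p) K (co x i)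
  have hF : ∀ g x, F g (cK x) = cK (cj g x) := by
    intro g x
    show ((M g).map (algebraMap (ZMod p) K)).mulVec (algebraMap (ZMod p) K ∘ co x) = _
    funext i
    rw [← RingHom.map_mulVec]
    simp only [cK, hM]
  have hFinv : ∀ g, Function.Injective (F g) := by
    intro g v w h
    have h1 := congrArg (F g⁻¹) h
    rwa [← Module.End.mul_apply, ← Module.End.mul_apply, ← map_mul, inv_mul_cancel, map_one,
      Module.End.one_apply, Module.End.one_apply] at h1
  set Ω := {L : Submodule K (Fin 2 → K) // ∃ v, v ≠ 0 ∧ L = Submodule.span K {v}}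
  let act : N → Ω → Ω := fun g L => ⟨L.1.map (F g), by
    obtain ⟨v, hv, hL⟩ := L.2
    exact ⟨F g v, fun h => hv (hFinv g (by rw [h, map_zero])),
      by rw [hL, Submodule.map_span, Set.image_singleton]⟩⟩
  have hact1 : ∀ L, act 1 L = L := fun L => Subtype.ext (by
    show L.1.map (F 1) = L.1
    rw [map_one, Module.End.one_eq_id, Submodule.map_id])
  have hactmul : ∀ g h L, act (g * h) L = act g (act h L) := fun g h L => Subtype.ext (by
    show L.1.map (F (g * h)) = (L.1.map (F h)).map (F g)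
    rw [map_mul, Module.End.mul_eq_comp, Submodule.map_comp])
  let ψ : N →* Equiv.Perm Ω :=
    { toFun := fun g =>
        { toFun := act g
          invFun := act g⁻¹
          left_inv := fun L => by rw [← hactmul, inv_mul_cancel, hact1]
          right_inv := fun L => by rw [← hactmul, mul_inv_cancel, hact1] }
      map_one' := Equiv.ext hact1
      map_mul' := fun g h => Equiv.ext (hactmul g h) }
  have hψ : ∀ g L, ψ g L = act g L := fun g L => rfl
  haveI : Finite ψ.range := Finite.of_surjective _ ψ.rangeRestrict_surjective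
  -- fixed points
  set m := ((P : Subgroup G).subgroupOf N).index with hm
  have hpm : ¬ p ∣ m := LAE65.not_dvd_relIndex_of_le P Subgroup.le_normalizer
  have hFm : ∀ g, F g ^ m = 1 := by
    intro g
    rw [← map_pow]
    have hmem : g ^ m ∈ (P : Subgroup G).subgroupOf N :=
      Subgroup.pow_index_mem _ g
    have : ρ (g ^ m) = 1 := hMext _ _ fun x => by
      show (M (g ^ m)).mulVec (co x) = _
      rw [hM, Matrix.one_mulVec]
      have e : cj (g ^ m) x = ⟨_, hmem⟩ * x * (⟨_, hmem⟩ : (P : Subgroup G))⁻¹ := rfl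
      rw [e, hco, hco, hcoinv]
      abel
    simp only [F, MonoidHom.comp_apply, this, map_one]
  have hfix : ∀ (g : N) (v : Fin 2 → K) (hv : v ≠ 0),
      act g ⟨_, v, hv, rfl⟩ = ⟨_, v, hv, rfl⟩ ↔ ∃ μ : K, F g v = μ • v := by
    intro g v hv
    rw [Subtype.ext_iff]
    show (Submodule.span K {v}).map (F g) = _ ↔ _
    rw [Submodule.map_span, Set.image_singleton]
    constructor
    · intro h
      have h1 : F g v ∈ Submodule.span K {v} := by
        have h' := Submodule.mem_span_singleton_self (R := K) (F g v)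
        rwa [h] at h'
      obtain ⟨μ, hμ⟩ := Submodule.mem_span_singleton.1 h1
      exact ⟨μ, hμ.symm⟩
    · rintro ⟨μ, hμ⟩
      rw [hμ]
      exact Submodule.span_singleton_smul_eq (Ne.isUnit fun h => hv (hFinv g
        (by rw [hμ, h, zero_smul, map_zero]))) _
  have h2 : ∀ x : ψ.range, x ≠ 1 → ∃ u v : Ω, u ≠ v ∧ ∀ w, x • w = w ↔ w = u ∨ w = v := by
    rintro ⟨_, g, rfl⟩ hx
    have hsm : ∀ w : Ω, (⟨ψ g, g, rfl⟩ : ψ.range) • w = act g w := fun w => rfl
    rcases eigenlines_two (F g) (m := m) ((CharP.cast_eq_zero_iff K p m).not.2 hpm) (hFm g) with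
      ⟨μ, hμ⟩ | ⟨v₁, v₂, h1, h2, h12, he1, he2, hall⟩
    · exfalso
      refine hx (Subtype.ext (Equiv.ext fun L => ?_))
      obtain ⟨L, v, hv, rfl⟩ := L
      exact (hfix g v hv).2 ⟨μ, hμ v⟩
    · refine ⟨⟨_, v₁, h1, rfl⟩, ⟨_, v₂, h2, rfl⟩, fun h => h12 (congrArg Subtype.val h), ?_⟩
      rintro ⟨L, v, hv, rfl⟩
      rw [hsm]
      constructor
      · intro h
        rcases hall v hv ((hfix g v hv).1 h) with h' | h'
        · exact Or.inl (Subtype.ext h')
        · exact Or.inr (Subtype.ext h')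
      · rintro (h | h) <;> rw [h]
        · exact (hfix g v₁ h1).2 he1
        · exact (hfix g v₂ h2).2 he2
  -- the points
  have hcK0 : ∀ x, cK x = 0 ↔ x ∈ Subgroup.center (P : Subgroup G) := by
    intro x
    rw [← hco0, funext_iff, funext_iff]
    simp [cK]
  let pt : ι → Ω := fun i => ⟨_, cK (a i), fun h => hanc i ((hcK0 _).1 h), rfl⟩
  have hptinj : Function.Injective pt := by
    intro i j h
    by_contra hne
    have h1 : cK (a j) ∈ Submodule.span K {cK (a i)} := by
      rw [show Submodule.span K {cK (a i)} = Submodule.span K {cK (a j)} from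
        congrArg Subtype.val h]
      exact Submodule.mem_span_singleton_self _
    obtain ⟨c, hc⟩ := Submodule.mem_span_singleton.1 h1
    obtain ⟨k, hk⟩ : ∃ k, co (a i) k ≠ 0 := Function.ne_iff.1 fun h => hanc i ((hco0 _).1 h)
    have hc' : c = algebraMap (ZMod p) K (co (a j) k / co (a i) k) := by
      have h2 := congrFun hc k
      simp only [Pi.smul_apply, smul_eq_mul, cK] at h2
      rw [map_div₀, eq_div_iff ((map_ne_zero _).2 hk), h2]
    refine hind i j hne (co (a j) k / co (a i) k).val ((hco0 _).1 ?_)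
    rw [hco, hcoinv, hcopow]
    funext l
    have h2 := congrFun hc l
    simp only [Pi.smul_apply, smul_eq_mul, cK, hc', ← map_mul] at h2
    have h3 := (algebraMap (ZMod p) K).injective h2
    rw [Pi.add_apply, Pi.neg_apply, Pi.smul_apply, Pi.zero_apply, nsmul_eq_mul,
      ZMod.natCast_zmod_val, h3, add_neg_cancel]
  -- the stabilizers
  obtain ⟨u, hu⟩ := IsCyclic.exists_generator (α := (ZMod p)ˣ)
  have hord : orderOf u = p - 1 := by
    rw [orderOf_eq_card_of_forall_mem_zpowers hu, Nat.card_units, Nat.card_zmod]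
  set t := (u : ZMod p).val with ht
  set n := (-((u⁻¹ : (ZMod p)ˣ) : ZMod p)).val with hn
  have htc : (t : ZMod p) = (u : ZMod p) := ZMod.natCast_zmod_val _
  have hnc : (n : ZMod p) = -((u⁻¹ : (ZMod p)ˣ) : ZMod p) := ZMod.natCast_zmod_val _
  have htn : p ∣ 1 + t * n := by
    rw [← ZMod.natCast_eq_zero_iff, Nat.cast_add, Nat.cast_one, Nat.cast_mul, htc, hnc,
      mul_neg, Units.mul_inv, add_neg_cancel]
  have hstab : ∀ i, ∃ x ∈ MulAction.stabilizer ψ.range (pt i),
      ∀ k, x ^ k = 1 → (p - 1) ∣ 3 * k := by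
    intro i
    obtain ⟨gl, hla, hlz⟩ := hl i
    obtain ⟨g, hg, hgz, c, hc, hga⟩ := exists_diag P hE hexp hz (hanc i) hla hlz htn
    have hcjA : cj ⟨g, hg⟩ (a i) = (a i ^ n)⁻¹ * c := Subtype.ext (by simpa [cj] using hga)
    have hFa : F ⟨g, hg⟩ (cK (a i)) = algebraMap (ZMod p) K (-(n : ZMod p)) • cK (a i) := by
      rw [hF, hcjA]
      funext l
      simp [cK, hco, hcoinv, hcopow, (hco0 _).2 hc, nsmul_eq_mul]
      exact (neg_mul _ _).symm
    refine ⟨⟨ψ ⟨g, hg⟩, _, rfl⟩, (hfix _ _ (fun h => hanc i ((hcK0 _).1 h))).2 ⟨_, hFa⟩, ?_⟩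
    intro k hk
    -- a second coordinate vector
    obtain ⟨b, hb⟩ : ∃ b, b * a i ≠ a i * b := by
      by_contra h
      push Not at h
      exact hanc i (Subgroup.mem_center_iff.2 h)
    have hli : LinearIndependent (ZMod p) ![co (a i), co b] := by
      rw [LinearIndependent.pair_iff' fun h => hanc i ((hco0 _).1 h)]
      intro r hr
      refine hb ?_
      have hbc : b * (a i ^ r.val)⁻¹ ∈ Subgroup.center (P : Subgroup G) := by
        rw [← hco0, hco, hcoinv, hcopow, ← hr, hnv, add_neg_cancel]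
      have e : b = b * (a i ^ r.val)⁻¹ * a i ^ r.val := by group
      rw [e]
      calc b * (a i ^ r.val)⁻¹ * a i ^ r.val * a i
          = b * (a i ^ r.val)⁻¹ * a i * a i ^ r.val := by
            rw [mul_assoc, ← pow_succ, pow_succ']; group
        _ = _ := by
            rw [← Subgroup.mem_center_iff.1 hbc (a i)]; group
    have hspan := hli.span_eq_top_of_card_eq_finrank (by simp)
    have hdec : ∀ v : Fin 2 → ZMod p, ∃ α β : ZMod p, α • co (a i) + β • co b = v := by
      intro v
      have hv : v ∈ Submodule.span (ZMod p) (Set.range ![co (a i), co b]) :=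
        hspan ▸ Submodule.mem_top
      rw [Matrix.range_cons, Matrix.range_cons, Matrix.range_empty, Set.union_empty,
        Set.singleton_union, Submodule.mem_span_pair] at hv
      exact hv
    obtain ⟨α, β, hαβ⟩ := hdec (co (cj ⟨g, hg⟩ b))
    -- the commutator computation
    have hβ : β = (t : ZMod p) ^ 2 := by
      set b' := cj ⟨g, hg⟩ b with hb'
      set a' := cj ⟨g, hg⟩ (a i) with ha'
      set w := a i * b * (a i)⁻¹ * b⁻¹ with hw
      have hwc : w ∈ Subgroup.center (P : Subgroup G) := xs_comm_mem_center hE _ _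
      have hwcomm : ∀ y, y * w = w * y := Subgroup.mem_center_iff.1 hwc
      have hw1 : w ≠ 1 := by
        intro h
        refine hb ?_
        rw [hw, mul_inv_eq_one, mul_inv_eq_iff_eq_mul] at h
        exact h.symm
      have hz1 : z ≠ 1 := by
        intro h
        rw [h, OneMemClass.coe_one, one_mul, mul_one, mul_inv_cancel] at hlz
        exact hanc i (by rw [show a i = 1 from Subtype.ext hlz.symm]; exact one_mem _)
      have hgw : cj ⟨g, hg⟩ w = w ^ t := by
        have heq := Subgroup.eq_of_le_of_card_ge (Subgroup.zpowers_le.2 hz) (by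
          rw [hE.2, Nat.card_zpowers, orderOf_eq_prime (Subtype.ext (hexp _ z.2)) hz1])
        obtain ⟨j, hj⟩ := Subgroup.mem_zpowers_iff.1 (heq ▸ hwc : w ∈ Subgroup.zpowers z)
        apply Subtype.ext
        rw [← hj]
        simp only [cj, SubgroupClass.coe_zpow, SubmonoidClass.coe_pow]
        rw [← conj_zpow, hgz, ← zpow_natCast, ← zpow_mul, ← zpow_natCast _ t, ← zpow_mul,
          mul_comm]
      have hb'd : b' * ((a i) ^ α.val * b ^ β.val)⁻¹ ∈ Subgroup.center (P : Subgroup G) := by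
        rw [← hco0, hco, hcoinv, hco, hcopow, hcopow, ← hαβ, hnv, hnv, add_neg_cancel]
      set M' := (p - 1) * n with hM'
      have hinv : (a i ^ n)⁻¹ = a i ^ M' := by
        have e : n + (p - 1) * n = p * n := by
          obtain ⟨q, hq⟩ : ∃ q, p = q + 1 := ⟨p - 1, by omega⟩
          rw [hq, Nat.add_sub_cancel]; ring
        rw [inv_eq_iff_mul_eq_one, hM', ← pow_add, e]
        exact pow_eq_one_of_nat_dvd (Subtype.ext (hexp _ (a i).2)) (dvd_mul_right p n)
      have h1 : a' * b' * a'⁻¹ = b' * w ^ (M' * β.val) := by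
        have hpre : a i ^ M' * b * (a i ^ M')⁻¹ = b * w ^ M' := (conj_pow_shift
          (by rw [hwcomm, mul_inv_cancel_right])
          (by rw [hwcomm b, hw]; group) M').1
        have hcc := Subgroup.mem_center_iff.1 hc
        rw [hcjA, hinv]
        have e1 : a i ^ M' * c * b' * (a i ^ M' * c)⁻¹ = a i ^ M' * b' * (a i ^ M')⁻¹ := by
          calc a i ^ M' * c * b' * (a i ^ M' * c)⁻¹
              = a i ^ M' * (c * b') * c⁻¹ * (a i ^ M')⁻¹ := by group
            _ = _ := by rw [← hcc b']; group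
        rw [e1]
        set d := b' * ((a i) ^ α.val * b ^ β.val)⁻¹ with hd
        have hdc := Subgroup.mem_center_iff.1 hb'd
        have e2 : b' = d * ((a i) ^ α.val * b ^ β.val) := by rw [hd]; group
        rw [e2, pow_mul w]
        calc a i ^ M' * (d * (a i ^ α.val * b ^ β.val)) * (a i ^ M')⁻¹
            = (a i ^ M' * d) * a i ^ α.val * b ^ β.val * (a i ^ M')⁻¹ := by group
          _ = d * (a i ^ α.val * (a i ^ M' * b * (a i ^ M')⁻¹) ^ β.val) := by
              rw [hdc, conj_pow, mul_assoc d, ← pow_add, add_comm, pow_add]; group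
          _ = _ := by
              rw [hpre, Commute.mul_pow (hwcomm b |> fun h => (Commute.pow_right h M'))]; group
      have h2 : a' * b' * a'⁻¹ = b' * w ^ t := by
        rw [← hgw, Subgroup.mem_center_iff.1 (show cj ⟨g, hg⟩ w ∈ Subgroup.center (P : Subgroup G) by rw [hgw]; exact pow_mem hwc t) b']
        apply Subtype.ext
        simp only [ha', hb', hw, cj, Subgroup.coe_mul, Subgroup.coe_inv]
        group
      have h3 := mul_left_cancel (h1.symm.trans h2)
      rw [pow_eq_pow_iff_modEq, orderOf_eq_prime (Subtype.ext (hexp _ w.2)) hw1,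
        ← ZMod.natCast_eq_natCast_iff, Nat.cast_mul, hM', Nat.cast_mul, hnc, ZMod.natCast_zmod_val,
        Nat.cast_sub hp.out.one_le, ZMod.natCast_self, zero_sub, Nat.cast_one] at h3
      have h4 : (((u⁻¹ : (ZMod p)ˣ)) : ZMod p) * β = (t : ZMod p) := by rw [← h3]; ring
      rw [sq, htc]
      calc β = (u : ZMod p) * ((((u⁻¹ : (ZMod p)ˣ)) : ZMod p) * β) := by
            rw [← mul_assoc, Units.mul_inv, one_mul]
        _ = _ := by rw [h4, htc]
    have hFb : F ⟨g, hg⟩ (cK b) = algebraMap (ZMod p) K α • cK (a i) +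
        algebraMap (ZMod p) K ((t : ZMod p) ^ 2) • cK b := by
      rw [hF, ← hβ]
      funext l
      simp [cK, ← hαβ, Algebra.smul_def]
    set f := F ⟨g, hg⟩ with hf
    set lam := algebraMap (ZMod p) K (-(n : ZMod p))
    set mu := algebraMap (ZMod p) K ((t : ZMod p) ^ 2)
    have hiter : ∀ k, (f ^ k) (cK (a i)) = lam ^ k • cK (a i) ∧
        ∃ r : K, (f ^ k) (cK b) = r • cK (a i) + mu ^ k • cK b := by
      intro k
      induction k with
      | zero => exact ⟨by simp, 0, by simp⟩
      | succ k ih =>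
        obtain ⟨ih1, r, ih2⟩ := ih
        refine ⟨by rw [pow_succ', Module.End.mul_apply, ih1, map_smul, hFa, smul_smul, pow_succ],
          r * lam + mu ^ k * algebraMap (ZMod p) K α, ?_⟩
        rw [pow_succ', Module.End.mul_apply, ih2, map_add, map_smul, map_smul, hFa, hFb, smul_add,
          smul_smul, smul_smul, smul_smul, add_smul, ← pow_succ, add_assoc]
    have hscal : ∀ v, v ≠ 0 → ∃ μ : K, (f ^ k) v = μ • v := by
      intro v hv
      rw [hf, ← map_pow]
      refine (hfix _ v hv).1 ?_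
      rw [← hψ, map_pow]
      have := congrArg Subtype.val hk
      simp only [SubmonoidClass.coe_pow, OneMemClass.coe_one] at this
      rw [this]
      rfl
    obtain ⟨hk1, r, hk2⟩ := hiter k
    have hliK : LinearIndependent K ![cK (a i), cK b] := by
      rw [LinearIndependent.pair_iff' fun h => hanc i ((hcK0 _).1 h)]
      intro q hq
      obtain ⟨l, hl'⟩ : ∃ l, co (a i) l ≠ 0 := Function.ne_iff.1 fun h => hanc i ((hco0 _).1 h)
      have hq' : q = algebraMap (ZMod p) K (co b l / co (a i) l) := by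
        have h2 := congrFun hq l
        simp only [Pi.smul_apply, smul_eq_mul, cK] at h2
        rw [map_div₀, eq_div_iff ((map_ne_zero _).2 hl'), h2]
      refine (LinearIndependent.pair_iff' (fun h => hanc i ((hco0 _).1 h))).1 hli
        (co b l / co (a i) l) ?_
      funext l'
      have h2 := congrFun hq l'
      simp only [Pi.smul_apply, smul_eq_mul, cK, hq', ← map_mul] at h2
      exact (algebraMap (ZMod p) K).injective h2
    have hpair := LinearIndependent.pair_iff.1 hliK
    have hsum0 : cK (a i) + cK b ≠ 0 := fun h =>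
      one_ne_zero (hpair 1 1 (by rw [one_smul, one_smul, h])).1
    have hb0 : cK b ≠ 0 := fun h => one_ne_zero (hpair 0 1 (by rw [zero_smul, one_smul, h, add_zero])).2
    obtain ⟨μb, hμb⟩ := hscal _ hb0
    obtain ⟨μs, hμs⟩ := hscal _ hsum0
    rw [hk2] at hμb
    rw [map_add, hk1, hk2, smul_add] at hμs
    have e1 := hpair r (mu ^ k - μb) (by rw [sub_smul, ← add_sub_assoc, hμb, sub_self])
    rw [e1.1, zero_smul, zero_add] at hμs
    have e2 := hpair (lam ^ k - μs) (mu ^ k - μs) (by
      rw [sub_smul, sub_smul, sub_add_sub_comm, hμs, sub_self])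
    have e3 : lam ^ k = mu ^ k := by rw [sub_eq_zero.1 e2.1, sub_eq_zero.1 e2.2]
    simp only [lam, mu, ← map_pow] at e3
    have e4 := (algebraMap (ZMod p) K).injective e3
    rw [hnc, neg_neg, htc] at e4
    rw [← hord, orderOf_dvd_iff_pow_eq_one]
    apply Units.ext
    rw [Units.val_pow_eq_pow_val, Units.val_one, show 3 * k = k + 2 * k by ring, pow_add,
      pow_mul, ← e4, ← mul_pow, Units.mul_inv, one_pow]
  have hcardstab : ∀ i q, (∀ k, 0 < k → (p - 1) ∣ 3 * k → q ≤ k) →
      q ≤ Nat.card (MulAction.stabilizer ψ.range (pt i)) := by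
    intro i q hq
    obtain ⟨x, hx, hxk⟩ := hstab i
    refine (hq (orderOf x) (orderOf_pos x) (hxk _ (pow_orderOf_eq_one x))).trans ?_
    exact Nat.le_of_dvd Nat.card_pos (Subgroup.orderOf_dvd_natCard _ hx)
  have hB := two_fixed_bound h2 (Finset.univ.image pt) (by
    intro b hb
    obtain ⟨i, -, rfl⟩ := Finset.mem_image.1 hb
    exact hcardstab i 4 fun k hk hd => by have := Nat.le_of_dvd (by omega) hd; omega)
  rw [Finset.card_image_of_injective _ hptinj, Finset.card_univ] at hB
  refine ⟨hB.1, fun h17 => hB.2 ?_⟩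
  intro b hb
  obtain ⟨i, -, rfl⟩ := Finset.mem_image.1 hb
  exact hcardstab i 6 fun k hk hd => by
    rcases h17 with h | h
    · have := Nat.le_of_dvd (by omega) hd
      omega
    · rw [h] at hd
      omega

end Group

end Cfsg.Agent.LocalEvenD
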