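import Cfsg.Prelude.Def_CaseTheorems
import Cfsg.Prelude.Def_IsolatedElements
import Cfsg.Agent.LAE65.Isolated
import Cfsg.Agent.Lib.PGroup.Basic

/-!
# Isolated elements of order `p` in groups of `p`-rank at most two: elementary facts
-/

set_option autoImplicit false

namespace Cfsg.Agent.LocalEvenD

open Cfsg.Agent.LAE65

variable {G : Type*} [Group G] {p : ℕ}

theorem rk_mem_sup [Finite G] [hp : Fact p.Prime] (hrank : Cfsg.PRankLE p 2 G) {a b c : G}
    (ha : a ^ p = 1) (hb : b ^ p = 1) (hc : c ^ p = 1)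
    (hab : Commute a b) (hac : Commute a c) (hbc : Commute b c)
    (ha1 : a ≠ 1) (hb1 : b ∉ Subgroup.zpowers a) :
    c ∈ Subgroup.zpowers a ⊔ Subgroup.zpowers b := by
  set S : Set G := {a, b, c} with hS
  set A := Subgroup.closure S with hA
  have hcomm : IsMulCommutative A := by
    refine Subgroup.isMulCommutative_closure ?_
    intro x hx y hy
    simp only [hS, Set.mem_insert_iff, Set.mem_singleton_iff] at hx hy
    rcases hx with rfl | rfl | rfl <;> rcases hy with rfl | rfl | rfl <;>
      first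
        | rfl
        | exact hab.eq
        | exact hab.eq.symm
        | exact hac.eq
        | exact hac.eq.symm
        | exact hbc.eq
        | exact hbc.eq.symm
  have hexp : ∀ x ∈ A, x ^ p = 1 := by
    intro x hx
    induction hx using Subgroup.closure_induction with
    | mem x hx =>
      simp only [hS, Set.mem_insert_iff, Set.mem_singleton_iff] at hx
      rcases hx with rfl | rfl | rfl <;> assumption
    | one => exact one_pow p
    | mul x y hx hy ihx ihy =>
      have : Commute x y := congrArg Subtype.val (hcomm.is_comm.comm (⟨x, hx⟩ : A) ⟨y, hy⟩)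
      rw [this.mul_pow, ihx, ihy, one_mul]
    | inv x _ ihx => rw [inv_pow, ihx, inv_one]
  have hcard : Nat.card A ≤ p ^ 2 := hrank A hcomm hexp
  have hB : Subgroup.zpowers a ⊔ Subgroup.zpowers b ≤ A :=
    sup_le (Subgroup.zpowers_le.2 (Subgroup.subset_closure (by simp [hS])))
      (Subgroup.zpowers_le.2 (Subgroup.subset_closure (by simp [hS])))
  set B := Subgroup.zpowers a ⊔ Subgroup.zpowers b with hBdef
  have hBp : IsPGroup p B := fun x => ⟨1, by
    rw [pow_one]; exact Subtype.ext (by simpa using hexp _ (hB x.2))⟩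
  obtain ⟨n, hn⟩ := IsPGroup.iff_card.1 hBp
  have hza : Nat.card (Subgroup.zpowers a) = p := by
    rw [Nat.card_zpowers, orderOf_eq_prime ha ha1]
  have hlt : Nat.card (Subgroup.zpowers a) < Nat.card B := by
    refine lt_of_le_of_ne (Subgroup.card_le_of_le le_sup_left) fun h => hb1 ?_
    have := Subgroup.eq_of_le_of_card_ge (le_sup_left : Subgroup.zpowers a ≤ B) h.ge
    rw [this]
    exact Subgroup.mem_sup_right (Subgroup.mem_zpowers b)
  rw [hza, hn] at hlt
  have hn2 : 2 ≤ n := by
    by_contra hn2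
    have : p ^ n ≤ p ^ 1 := Nat.pow_le_pow_right hp.out.pos (by omega)
    rw [pow_one] at this
    omega
  have heq : B = A := Subgroup.eq_of_le_of_card_ge hB
    (hcard.trans (hn ▸ Nat.pow_le_pow_right hp.out.pos hn2))
  rw [heq]
  exact Subgroup.subset_closure (by simp [hS])

theorem rk_exists_zpow {a b c : G} (hab : Commute a b)
    (hc : c ∈ Subgroup.zpowers a ⊔ Subgroup.zpowers b) : ∃ i j : ℤ, c = a ^ i * b ^ j := by
  rw [Subgroup.zpowers_eq_closure, Subgroup.zpowers_eq_closure, ← Subgroup.closure_union] at hc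
  induction hc using Subgroup.closure_induction with
  | mem x hx =>
    rcases hx with hx | hx <;> rw [Set.mem_singleton_iff] at hx <;> subst hx
    · exact ⟨1, 0, by simp⟩
    · exact ⟨0, 1, by simp⟩
  | one => exact ⟨0, 0, by simp⟩
  | mul x y _ _ ihx ihy =>
    obtain ⟨i, j, rfl⟩ := ihx
    obtain ⟨k, l, rfl⟩ := ihy
    refine ⟨i + k, j + l, ?_⟩
    rw [zpow_add, zpow_add, mul_assoc (a ^ i), ← mul_assoc (b ^ j), ← (hab.zpow_zpow k j).eq]
    group
  | inv x _ ihx =>
    obtain ⟨i, j, rfl⟩ := ihx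
    refine ⟨-i, -j, ?_⟩
    rw [mul_inv_rev, ← zpow_neg, ← zpow_neg, (hab.zpow_zpow (-i) (-j)).eq]

theorem rk_isolated_conj {x : G} (hiso : Cfsg.IsIsolated x) (a : G) :
    Cfsg.IsIsolated (a * x * a⁻¹) := by
  intro g h
  have h1 : Commute (a * x * a⁻¹) ((g * a) * x * (g * a)⁻¹) := by simpa [mul_assoc] using h
  have h2 := isolated_eq_of_commute hiso h1
  simpa [mul_assoc] using h2.symm

theorem rk_not_center_conj {x : G} (hnc : x ∉ Subgroup.center G) (a : G) :
    a * x * a⁻¹ ∉ Subgroup.center G := by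
  intro h
  refine hnc ?_
  have h1 := Subgroup.mem_center_iff.1 h a
  have e : a * x * a⁻¹ = x := by
    calc a * x * a⁻¹ = a⁻¹ * (a * (a * x * a⁻¹)) := by group
      _ = a⁻¹ * (a * x * a⁻¹ * a) := by rw [h1]
      _ = x := by group
  rwa [e] at h

/-- A nontrivial power of an isolated element of order `p` is isolated. -/
theorem rk_isolated_zpow [hp : Fact p.Prime] {x : G} (hx : orderOf x = p)
    (hiso : Cfsg.IsIsolated x) {i : ℤ} {g : G} (h : Commute (x ^ i) (g * x ^ i * g⁻¹)) :
    g * x ^ i * g⁻¹ = x ^ i := by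
  by_cases h1 : x ^ i = 1
  · rw [h1]; group
  have hxmem : x ∈ Subgroup.zpowers (x ^ i) := by
    have hle : Subgroup.zpowers (x ^ i) ≤ Subgroup.zpowers x :=
      Subgroup.zpowers_le.2 (Subgroup.zpow_mem_zpowers x i)
    have hord : orderOf (x ^ i) = p :=
      orderOf_eq_prime (by rw [← zpow_natCast, ← zpow_mul, mul_comm, zpow_mul, zpow_natCast,
        ← hx, pow_orderOf_eq_one, one_zpow]) h1
    haveI : Finite (Subgroup.zpowers x) := Nat.finite_of_card_ne_zero (by
      rw [Nat.card_zpowers, hx]; exact hp.out.ne_zero)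
    rw [Subgroup.eq_of_le_of_card_ge hle (by rw [Nat.card_zpowers, Nat.card_zpowers, hord, hx])]
    exact Subgroup.mem_zpowers x
  obtain ⟨k, hk⟩ := Subgroup.mem_zpowers_iff.1 hxmem
  have h2 : Commute x (g * x * g⁻¹) := by
    have e : g * x * g⁻¹ = (g * x ^ i * g⁻¹) ^ k := by rw [conj_zpow, hk]
    rw [e]
    nth_rw 1 [← hk]
    exact h.zpow_zpow k k
  have h3 := hiso g h2
  rw [← conj_zpow, h3]

/-- An element of order `p` of a Sylow subgroup containing an isolated element and a further
central element is a product of their powers. -/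
theorem rk_exists_zpow_of_mem [Finite G] [hp : Fact p.Prime] (hrank : Cfsg.PRankLE p 2 G) {x : G}
    (hx : orderOf x = p) (hiso : Cfsg.IsIsolated x) {R : Subgroup G} (hR : IsPGroup p R)
    (hxR : x ∈ R) {z : G} (hz : z ^ p = 1) (hzR : ∀ r ∈ R, Commute z r)
    (hzx : z ∉ Subgroup.zpowers x) {u : G} (hu : u ∈ R) (hup : u ^ p = 1) :
    ∃ i j : ℤ, u = x ^ i * z ^ j := by
  have hxu : Commute x u := by
    have := isolated_commute_of_mem hiso hR hxR hu
    exact (mul_inv_eq_iff_eq_mul.1 this).symm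
  exact rk_exists_zpow (hzR x hxR).symm (rk_mem_sup hrank (hx ▸ pow_orderOf_eq_one x) hz hup
    (hzR x hxR).symm hxu (hzR u hu) (fun h => hp.out.one_lt.ne' (by rw [← hx, h, orderOf_one]))
    hzx)

end Cfsg.Agent.LocalEvenD
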