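import Cfsg.Agent.LocalEvenD.RankTwo
import Cfsg.Agent.Lib.Components.GenFitting
import Cfsg.Agent.Lib.Transfer.Residual
import Cfsg.Agent.Lib.Transfer.Frobenius
import Cfsg.Agent.S1443
import Cfsg.Agent.S0016

/-!
# `F*(G)` is simple when an isolated element of order `p` is not central, in rank two
-/

set_option autoImplicit false
set_option linter.style.haveILetI false

namespace Cfsg.Agent.LocalEvenD

open Cfsg.Agent.LAE65

variable {G : Type*} [Group G] [Finite G] {p : ℕ} [Fact p.Prime]

theorem rk_not_nPComplement {X : Type*} [Group X] [Finite X] (hX : Cfsg.IsQuasisimple X)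
    (hdvd : p ∣ Nat.card X) : ¬ Cfsg.HasNormalPComplement p X := by
  intro h
  have hR := Transfer.hasNormalPComplement_iff_not_dvd.1 h
  by_cases htop : Cfsg.pResidual p X = ⊤
  · rw [htop, Subgroup.card_top] at hR
    exact hR hdvd
  · haveI : (Cfsg.pResidual p X).Normal := Transfer.pResidual_normal
    haveI : Nontrivial (X ⧸ Cfsg.pResidual p X) := QuotientGroup.nontrivial_iff.2 htop
    have hqs := Components.isQuasisimple_of_surjective hX (QuotientGroup.mk' (Cfsg.pResidual p X))
      (QuotientGroup.mk'_surjective _)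
    refine Components.not_isSolvable_of_isQuasisimple hqs ?_
    haveI : Group.IsNilpotent (X ⧸ Cfsg.pResidual p X) :=
      (Transfer.isPGroup_quotient_pResidual (p := p) (G := X)).isNilpotent
    infer_instance

theorem rk_exists_component (hcore : Cfsg.pPrimeCore p G = ⊥) {x : G} (hx : orderOf x = p)
    (hiso : Cfsg.IsIsolated x) (hnc : x ∉ Subgroup.center G) :
    x ∉ Cfsg.pCore p G ∧ ∃ L : Subgroup G, Cfsg.IsComponent L := by
  have hxQ : x ∉ Cfsg.pCore p G := by
    intro h
    refine hnc (Subgroup.mem_center_iff.2 fun g => ?_)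
    have hg : g ∈ Subgroup.centralizer ({x} : Set G) := by
      refine isolated_normalizer_le hiso (Thompson.isPGroup_pCore (p := p) (G := G)) h ?_
      rw [Subgroup.normalizer_eq_top]
      exact Subgroup.mem_top g
    exact mem_centralizer_singleton.1 hg
  refine ⟨hxQ, ?_⟩
  by_contra hne
  push Not at hne
  refine hxQ ?_
  have hF : Cfsg.generalizedFittingSubgroup G = Cfsg.pCore p G := by
    rw [Cfsg.generalizedFittingSubgroup, Components.layer_eq_bot_iff.2 hne, bot_sup_eq,
      Components.fitting_eq_pCore_of_pPrimeCore_eq_bot hcore]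
  rw [← hF]
  refine Components.centralizer_generalizedFitting_le ?_
  rw [hF, Subgroup.mem_centralizer_iff]
  intro q hq
  have hR : IsPGroup p ↥(Cfsg.pCore p G ⊔ Subgroup.zpowers x) :=
    (Thompson.isPGroup_pCore (p := p) (G := G)).to_sup_of_normal_left
      (isPGroup_zpowers ⟨1, by rw [hx, pow_one]⟩)
  have := isolated_commute_of_mem hiso hR (Subgroup.mem_sup_right (Subgroup.mem_zpowers x))
    (Subgroup.mem_sup_left hq)
  exact mul_inv_eq_iff_eq_mul.1 this

theorem rk_exists_conj_mem {x : G} (hx : orderOf x = p) (T : Sylow p G) :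
    ∃ a : G, a * x * a⁻¹ ∈ (T : Subgroup G) := by
  obtain ⟨U, hU⟩ := (isPGroup_zpowers (p := p) (x := x) ⟨1, by rw [hx, pow_one]⟩).exists_le_sylow
  obtain ⟨a, ha⟩ := MulAction.exists_smul_eq G U T
  refine ⟨a, ?_⟩
  rw [← ha, Sylow.coe_subgroup_smul]
  exact Subgroup.smul_mem_pointwise_smul x (MulAut.conj a) _ (hU (Subgroup.mem_zpowers x))

theorem rk_pCore_eq_bot (hp : p ≠ 2) (hcore : Cfsg.pPrimeCore p G = ⊥)
    (hrank : Cfsg.PRankLE p 2 G) {x : G} (hx : orderOf x = p) (hiso : Cfsg.IsIsolated x)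
    (hnc : x ∉ Subgroup.center G) : Cfsg.pCore p G = ⊥ := by
  by_contra hQ
  obtain ⟨-, L, hL⟩ := rk_exists_component hcore hx hiso hnc
  have hdvd : p ∣ Nat.card L := Components.dvd_card_component hcore hL
  obtain ⟨P⟩ := (inferInstance : Nonempty (Sylow p ↥L))
  obtain ⟨T, hT⟩ := (P.2.map L.subtype).exists_le_sylow
  obtain ⟨a, ha⟩ := rk_exists_conj_mem hx T
  set y := a * x * a⁻¹ with hy
  have hyiso : Cfsg.IsIsolated y := rk_isolated_conj hiso a
  have hync : y ∉ Subgroup.center G := rk_not_center_conj hnc a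
  have hyord : orderOf y = p := by rw [hy, ← MulAut.conj_apply, MulEquiv.orderOf_eq, hx]
  obtain ⟨hyQ, -⟩ := rk_exists_component hcore hyord hyiso hync
  -- an element of order `p` of `O_p(G)` central in `T`
  have hQT : Cfsg.pCore p G ≤ (T : Subgroup G) :=
    Thompson.pCore_le_sylow T
  set Q' := (Cfsg.pCore p G).subgroupOf (T : Subgroup G) with hQ'
  have hQ'ne : Q' ≠ ⊥ := by
    rw [hQ', Ne, Subgroup.subgroupOf_eq_bot, disjoint_iff, inf_eq_left.2 hQT]
    exact hQ
  have hcne := PGroup.inf_center_ne_bot T.2 hQ'ne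
  obtain ⟨z₀, hz₀, hz₀1, hz₀p⟩ := PGroup.exists_mem_pow_eq_one T.2 hcne
  set z : G := (z₀ : G) with hzdef
  have hzQ : z ∈ Cfsg.pCore p G := hz₀.1
  have hzp : z ^ p = 1 := by rw [hzdef, ← SubmonoidClass.coe_pow, hz₀p]; rfl
  have hzT : ∀ r ∈ (T : Subgroup G), Commute z r := fun r hr =>
    (congrArg Subtype.val (Subgroup.mem_center_iff.1 hz₀.2 ⟨r, hr⟩)).symm
  have hz1 : z ≠ 1 := fun h => hz₀1 (Subtype.ext h)
  have hzy : z ∉ Subgroup.zpowers y := by
    intro h
    refine hyQ ?_
    have hle : Subgroup.zpowers z ≤ Subgroup.zpowers y := Subgroup.zpowers_le.2 h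
    have he := Subgroup.eq_of_le_of_card_ge hle
      (by rw [Nat.card_zpowers, Nat.card_zpowers, orderOf_eq_prime hzp hz1, hyord])
    have : y ∈ Subgroup.zpowers z := he ▸ Subgroup.mem_zpowers y
    exact Subgroup.zpowers_le.2 hzQ this
  have hzL : ∀ g ∈ L, Commute z g := by
    intro g hg
    have h1 := Components.layer_le_centralizer_fitting (G := G)
      (Components.component_le_layer hL hg)
    exact (Subgroup.mem_centralizer_iff.1 h1 z
      (Fitting.pCore_le_fitting p hzQ)).symm.symm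
  refine rk_not_nPComplement hL.2 hdvd
    (Transfer.hasNormalPComplement_of_normalizer_centralizer P fun D hDP _ g hg hgp => ?_)
  set D' := D.map L.subtype with hD'
  have hD'T : D' ≤ (T : Subgroup G) := (Subgroup.map_mono hDP).trans hT
  have hgN : (g : G) ∈ Subgroup.normalizer (D' : Set G) :=
    Subgroup.le_normalizer_map L.subtype ⟨g, hg, rfl⟩
  have hfix : ∀ u ∈ D', u ^ p = 1 → Commute (g : G) u := by
    intro u hu hup
    obtain ⟨i, j, rfl⟩ := rk_exists_zpow_of_mem hrank hyord hyiso T.2 ha hzp hzT hzy (hD'T hu) hup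
    have hzg : Commute (g : G) (z ^ j) := ((hzL g g.2).symm).zpow_right j
    have hmem : (g : G) * (y ^ i * z ^ j) * (g : G)⁻¹ ∈ (T : Subgroup G) :=
      hD'T ((Subgroup.mem_normalizer_iff.1 hgN _).1 hu)
    have e : (g : G) * (y ^ i * z ^ j) * (g : G)⁻¹ = ((g : G) * y ^ i * (g : G)⁻¹) * z ^ j := by
      have h3 : z ^ j * (g : G)⁻¹ = (g : G)⁻¹ * z ^ j := (hzg.inv_left).eq.symm
      rw [mul_assoc, mul_assoc (y ^ i), h3]; group
    have hzjT : z ^ j ∈ (T : Subgroup G) := Subgroup.zpow_mem _ (hQT hzQ) j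
    have hcT : (g : G) * y ^ i * (g : G)⁻¹ ∈ (T : Subgroup G) := by
      rw [e] at hmem
      exact (Subgroup.mul_mem_cancel_right _ hzjT).1 hmem
    have hcomm : Commute (y ^ i) ((g : G) * y ^ i * (g : G)⁻¹) := by
      have := isolated_commute_of_mem hyiso T.2 ha hcT
      exact (show Commute y _ from (mul_inv_eq_iff_eq_mul.1 this).symm).zpow_left i
    have hfix := rk_isolated_zpow hyord hyiso hcomm
    have : Commute (g : G) (y ^ i) := mul_inv_eq_iff_eq_mul.1 hfix
    exact this.mul_right hzg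
  have hA : Subgroup.zpowers (g : G) ≤ Subgroup.centralizer (D' : Set G) := by
    refine S1443.result p hp D' ⊥ _ (T.2.to_le hD'T) bot_le ⟨inferInstance, ?_⟩
      (Subgroup.zpowers_le.2 hgN) ?_ ?_
    · intro u hu
      rw [Subgroup.mem_bot.1 hu, one_pow]
    · rw [Nat.card_zpowers, Subgroup.orderOf_coe]
      exact hgp
    · intro u hu hup
      exact Subgroup.zpowers_le.2 (mem_centralizer_singleton.2
        (hfix u hu.1 (hup ▸ pow_orderOf_eq_one u)).eq)
  rw [Subgroup.mem_centralizer_iff]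
  intro u hu
  exact Subtype.ext (Subgroup.mem_centralizer_iff.1 (hA (Subgroup.mem_zpowers _)) (u : G)
    ⟨u, hu, rfl⟩)

theorem rk_component_center_eq_bot (hcore : Cfsg.pPrimeCore p G = ⊥)
    (hQ : Cfsg.pCore p G = ⊥) {L : Subgroup G} (hL : Cfsg.IsComponent L) :
    L ⊓ Subgroup.centralizer (L : Set G) = ⊥ := by
  rw [Subgroup.eq_bot_iff_forall]
  rintro z ⟨hzL, hzc⟩
  have hall : z ∈ Subgroup.centralizer ((Cfsg.layer G : Subgroup G) : Set G) := by
    have hle : Cfsg.layer G ≤ Subgroup.centralizer ({z} : Set G) := by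
      rw [Components.layer_le_iff]
      intro M hM m hm
      refine mem_centralizer_singleton.2 ?_
      by_cases heq : M = L
      · subst heq
        exact Subgroup.mem_centralizer_iff.1 hzc m hm
      · exact (Subgroup.mem_centralizer_iff.1 (Components.component_le_centralizer hM hL heq hm)
          z hzL).symm
    rw [Subgroup.mem_centralizer_iff]
    intro w hw
    exact mem_centralizer_singleton.1 (hle hw)
  have hz : z ∈ (Subgroup.center (Cfsg.layer G)).map (Cfsg.layer G).subtype :=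
    ⟨⟨z, Components.component_le_layer hL hzL⟩, Subgroup.mem_center_iff.2 fun w =>
      Subtype.ext (Subgroup.mem_centralizer_iff.1 hall (w : G) w.2), rfl⟩
  have := Components.map_center_layer_le_pCore (p := p) hcore hz
  rwa [hQ, Subgroup.mem_bot] at this

/-- Two distinct components are impossible. -/
theorem rk_component_eq (hcore : Cfsg.pPrimeCore p G = ⊥) (hp : p ≠ 2)
    (hrank : Cfsg.PRankLE p 2 G) {x : G} (hx : orderOf x = p) (hiso : Cfsg.IsIsolated x)
    (hnc : x ∉ Subgroup.center G) {L₁ L₂ : Subgroup G} (h1 : Cfsg.IsComponent L₁)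
    (h2 : Cfsg.IsComponent L₂) : L₁ = L₂ := by
  by_contra hne
  have hQ := rk_pCore_eq_bot hp hcore hrank hx hiso hnc
  -- the general contradiction
  have main : ∀ {A B : Subgroup G}, Cfsg.IsComponent A → Cfsg.IsComponent B → A ≠ B →
      ∀ {y : G}, orderOf y = p → Cfsg.IsIsolated y →
      ∀ {u v : G}, u ∈ A → v ∈ B → u ^ p = 1 → y = u * v → u ≠ 1 → False := by
    intro A B hA hB hAB y hy hyiso u v hu hv hup hyuv hu1
    have hBA : ∀ {a b : G}, a ∈ A → b ∈ B → Commute a b := fun {a b} ha hb =>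
      (Subgroup.mem_centralizer_iff.1 (Components.component_le_centralizer hB hA (Ne.symm hAB) hb)
        a ha)
    have huiso : Cfsg.IsIsolated (⟨u, hu⟩ : A) := by
      intro g hg
      have hg' : Commute u ((g : G) * u * (g : G)⁻¹) := congrArg Subtype.val hg
      have hgv : (g : G) * v * (g : G)⁻¹ = v :=
        mul_inv_eq_iff_eq_mul.2 (hBA g.2 hv).eq
      have he : (g : G) * y * (g : G)⁻¹ = (g : G) * u * (g : G)⁻¹ * v := by
        calc (g : G) * y * (g : G)⁻¹
            = (g : G) * u * (g : G)⁻¹ * ((g : G) * v * (g : G)⁻¹) := by rw [hyuv]; group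
          _ = _ := by rw [hgv]
      have hgu : (g : G) * u * (g : G)⁻¹ ∈ A := A.mul_mem (A.mul_mem g.2 hu) (A.inv_mem g.2)
      have hc : Commute y ((g : G) * y * (g : G)⁻¹) := by
        rw [he, hyuv]
        exact (hg'.mul_right (hBA hu hv)).mul_left ((hBA hgu hv).symm.mul_right (Commute.refl v))
      have h := hyiso _ hc
      rw [he, hyuv] at h
      exact Subtype.ext (mul_right_cancel h)
    obtain ⟨w, hw⟩ := exists_prime_orderOf_dvd_card' p (Components.dvd_card_component hcore hB)
    have hw1 : (w : G) ≠ 1 := fun h => (Fact.out : p.Prime).one_lt.ne'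
      (by rw [← hw, ← Subgroup.orderOf_coe, h, orderOf_one])
    have hwp : (w : G) ^ p = 1 := by
      rw [← SubmonoidClass.coe_pow, ← hw, pow_orderOf_eq_one]; rfl
    have hAB0 : ∀ {c : G}, c ∈ A → c ∈ B → c = 1 := fun {c} ha hb => by
      have : c ∈ A ⊓ Subgroup.centralizer (A : Set G) :=
        ⟨ha, Subgroup.mem_centralizer_iff.2 fun a' ha' => (hBA ha' hb).eq⟩
      rwa [rk_component_center_eq_bot hcore hQ hA, Subgroup.mem_bot] at this
    refine rk_not_nPComplement hA.2 (Components.dvd_card_component hcore hA)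
      (isolated_cyclic_hasNormalPComplement (p := p) (x := (⟨u, hu⟩ : A))
        ⟨1, by rw [Subgroup.orderOf_mk, pow_one, orderOf_eq_prime hup hu1]⟩ huiso
        (fun h => hu1 (congrArg Subtype.val h)) fun P => ?_)
    by_cases hP : (P : Subgroup A) = ⊥
    · rw [hP]; infer_instance
    haveI : Nontrivial (P : Subgroup A) := (Subgroup.nontrivial_iff_ne_bot _).2 hP
    have hcne : Subgroup.center (P : Subgroup A) ≠ ⊥ := by
      haveI := P.2.center_nontrivial
      exact (Subgroup.nontrivial_iff_ne_bot _).1 inferInstance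
    obtain ⟨z, hz, hz1, hzp⟩ := PGroup.exists_mem_pow_eq_one P.2 hcne
    refine (S0016.result p P.2 fun H K hH hK => ?_).resolve_right fun h => hp h.1
    have key : ∀ H : Subgroup (P : Subgroup A), Nat.card H = p → H = Subgroup.zpowers z := by
        intro H hH
        refine (Subgroup.eq_of_le_of_card_ge (fun h hh => ?_) ?_).symm.symm
        · have hhp : ((h : A) : G) ^ p = 1 := by
            have : (⟨h, hh⟩ : H) ^ p = 1 := by
              have h6 := pow_card_eq_one' (x := (⟨h, hh⟩ : H))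
              rwa [hH] at h6
            have h' : h ^ p = 1 := congrArg Subtype.val this
            rw [← SubmonoidClass.coe_pow, ← SubmonoidClass.coe_pow, h']; rfl
          have hzp' : ((z : A) : G) ^ p = 1 := by
            rw [← SubmonoidClass.coe_pow, ← SubmonoidClass.coe_pow, hzp]; rfl
          by_contra hnot
          have hnot' : ((h : A) : G) ∉ Subgroup.zpowers ((z : A) : G) := by
            rintro ⟨k, hk⟩
            exact hnot ⟨k, Subtype.ext (Subtype.ext (by simpa using hk))⟩
          have hzh : Commute ((z : A) : G) ((h : A) : G) := by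
            have h5 := congrArg (fun q : (P : Subgroup A) => ((q : A) : G))
              (Subgroup.mem_center_iff.1 hz h)
            simpa [Commute, SemiconjBy] using h5.symm
          have hmem := rk_mem_sup hrank hzp' hhp hwp hzh (hBA (z : A).2 w.2) (hBA (h : A).2 w.2)
            (fun h' => hz1 (Subtype.ext (Subtype.ext h'))) hnot'
          refine hw1 (hAB0 ?_ w.2)
          exact sup_le (Subgroup.zpowers_le.2 (z : A).2) (Subgroup.zpowers_le.2 (h : A).2) hmem
        · rw [Nat.card_zpowers, orderOf_eq_prime hzp hz1, hH]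
    rw [key H hH, key K hK]
  obtain ⟨w₁, hw₁⟩ := exists_prime_orderOf_dvd_card' p (Components.dvd_card_component hcore h1)
  obtain ⟨w₂, hw₂⟩ := exists_prime_orderOf_dvd_card' p (Components.dvd_card_component hcore h2)
  have hc : ∀ {a b : G}, a ∈ L₁ → b ∈ L₂ → Commute a b := fun {a b} ha hb =>
    (Subgroup.mem_centralizer_iff.1 (Components.component_le_centralizer h2 h1 (Ne.symm hne) hb)
      a ha)
  have hww : Commute (w₁ : G) (w₂ : G) := hc w₁.2 w₂.2
  have hp1 : (w₁ : G) ^ p = 1 := by
    rw [← SubmonoidClass.coe_pow, ← hw₁, pow_orderOf_eq_one]; rfl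
  have hp2 : (w₂ : G) ^ p = 1 := by
    rw [← SubmonoidClass.coe_pow, ← hw₂, pow_orderOf_eq_one]; rfl
  have ho1 : (w₁ : G) ≠ 1 := fun h => (Fact.out : p.Prime).one_lt.ne'
      (by rw [← hw₁, ← Subgroup.orderOf_coe, h, orderOf_one])
  have hnot : (w₂ : G) ∉ Subgroup.zpowers (w₁ : G) := by
    intro h
    have hmem : (w₂ : G) ∈ L₂ ⊓ Subgroup.centralizer (L₂ : Set G) :=
      ⟨w₂.2, Subgroup.mem_centralizer_iff.2 fun b hb =>
        (hc (Subgroup.zpowers_le.2 w₁.2 h) hb).eq.symm⟩
    rw [rk_component_center_eq_bot hcore hQ h2, Subgroup.mem_bot] at hmem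
    exact (Fact.out : p.Prime).one_lt.ne'
      (by rw [← hw₂, ← Subgroup.orderOf_coe, hmem, orderOf_one])
  have hpg : IsPGroup p ↥(Subgroup.zpowers (w₁ : G) ⊔ Subgroup.zpowers (w₂ : G)) := by
    refine (isPGroup_zpowers ⟨1, by rw [pow_one]; exact orderOf_eq_prime hp1 ho1⟩).to_sup_of_normal_left'
      (isPGroup_zpowers ⟨1, by rw [pow_one, Subgroup.orderOf_coe, hw₂]⟩) ?_
    refine le_trans (Subgroup.zpowers_le.2 (Subgroup.mem_centralizer_iff.2 ?_))
      (Subgroup.centralizer_le_normalizer _)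
    rintro _ ⟨k, rfl⟩
    exact (hww.zpow_left k).eq
  obtain ⟨T, hT⟩ := hpg.exists_le_sylow
  obtain ⟨a, ha⟩ := rk_exists_conj_mem hx T
  set y := a * x * a⁻¹ with hy
  have hyiso : Cfsg.IsIsolated y := rk_isolated_conj hiso a
  have hyord : orderOf y = p := by rw [hy, ← MulAut.conj_apply, MulEquiv.orderOf_eq, hx]
  have hcy : ∀ {t : G}, t ∈ (T : Subgroup G) → Commute y t := fun {t} ht =>
    (mul_inv_eq_iff_eq_mul.1 (isolated_commute_of_mem hyiso T.2 ha ht)).symm
  have hym := rk_mem_sup hrank hp1 hp2 (hyord ▸ pow_orderOf_eq_one y) hww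
    (hcy (hT (Subgroup.mem_sup_left (Subgroup.mem_zpowers _)))).symm
    (hcy (hT (Subgroup.mem_sup_right (Subgroup.mem_zpowers _)))).symm ho1 hnot
  obtain ⟨i, j, hij⟩ := rk_exists_zpow hww hym
  have hpow : ∀ {w : G} (k : ℤ), w ^ p = 1 → (w ^ k) ^ p = 1 := fun {w} k hw => by
    rw [← zpow_natCast, ← zpow_mul, mul_comm, zpow_mul, zpow_natCast, hw, one_zpow]
  by_cases hi : (w₁ : G) ^ i = 1
  · refine main h2 h1 (Ne.symm hne) hyord hyiso (u := (w₂ : G) ^ j) (v := 1)
      (Subgroup.zpow_mem _ w₂.2 j) (one_mem _) (hpow j hp2) (by rw [hij, hi, one_mul, mul_one]) ?_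
    intro hj
    rw [hi, hj, one_mul] at hij
    rw [hij, orderOf_one] at hyord
    exact (Fact.out : p.Prime).one_lt.ne hyord
  · exact main h1 h2 hne hyord hyiso (Subgroup.zpow_mem _ w₁.2 i) (Subgroup.zpow_mem _ w₂.2 j)
      (hpow i hp1) hij hi

theorem rk_fitting_simple (hp : p ≠ 2) (hcore : Cfsg.pPrimeCore p G = ⊥)
    (hrank : Cfsg.PRankLE p 2 G) {x : G} (hx : orderOf x = p) (hiso : Cfsg.IsIsolated x)
    (hnc : x ∉ Subgroup.center G) :
    IsSimpleGroup ↥(Cfsg.generalizedFittingSubgroup G) ∧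
      ¬ IsMulCommutative ↥(Cfsg.generalizedFittingSubgroup G) := by
  obtain ⟨-, L, hL⟩ := rk_exists_component hcore hx hiso hnc
  have hQ := rk_pCore_eq_bot hp hcore hrank hx hiso hnc
  have hF : Cfsg.generalizedFittingSubgroup G = L := by
    rw [Cfsg.generalizedFittingSubgroup, Components.fitting_eq_pCore_of_pPrimeCore_eq_bot hcore,
      hQ, sup_bot_eq]
    refine le_antisymm (Components.layer_le_iff.2 fun M hM => ?_) (Components.component_le_layer hL)
    exact (rk_component_eq hcore hp hrank hx hiso hnc hM hL).le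
  rw [hF]
  refine ⟨?_, Components.not_isMulCommutative_of_isQuasisimple hL.2⟩
  have hc : Subgroup.center ↥L = ⊥ := by
    rw [Subgroup.eq_bot_iff_forall]
    intro z hz
    have : (z : G) ∈ L ⊓ Subgroup.centralizer (L : Set G) :=
      ⟨z.2, Subgroup.mem_centralizer_iff.2 fun l hl =>
        congrArg Subtype.val (Subgroup.mem_center_iff.1 hz ⟨l, hl⟩)⟩
    rw [rk_component_center_eq_bot hcore hQ hL, Subgroup.mem_bot] at this
    exact Subtype.ext this
  have hs := hL.2.2
  haveI := Components.nontrivial_of_isQuasisimple hL.2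
  exact (((QuotientGroup.quotientMulEquivOfEq hc).trans QuotientGroup.quotientBot).symm.isSimpleGroup_congr).2 hs

end Cfsg.Agent.LocalEvenD
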