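import Cfsg.Agent.LocalEvenD.GTStrong
import Cfsg.Agent.LocalEven61.StrongFusionSections

/-!
Control of strong fusion by the normalizer of a functor value at a strongly closed subgroup
(after `LocalEven61.StrongFusionSections`).
-/

set_option autoImplicit false
set_option linter.style.haveILetI false

open Cfsg
open scoped Classical

namespace Cfsg.Agent.LocalEvenD

open Cfsg.Agent.ConjFunctor

universe u

variable {p : ℕ} [Fact p.Prime] (F : CentreFunctor.{u} p) {H : Type u} [Group H] [Finite H]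

/-- Control of strong fusion in `S` by `N(X D)`. -/
def CtlAt (S : Sylow p H) (D : Subgroup H) : Prop :=
  ∀ (A : Set H) (g : H), A ⊆ (S : Subgroup H) → img g A ⊆ (S : Subgroup H) →
    ∃ x ∈ nrm (F.X H D), ∀ a ∈ A, x * a * x⁻¹ = g * a * g⁻¹

/-- Control for every strongly closed subgroup. -/
def StrongCtlD (H : Type u) [Group H] [Finite H] : Prop :=
  ∀ (S : Sylow p H) (D : Subgroup H), Cfsg.IsStronglyClosed D (S : Subgroup H) → CtlAt F S D

theorem le_nrm_X {S : Subgroup H} {D : Subgroup H} (hD : Cfsg.IsStronglyClosed D S) :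
    S ≤ nrm (F.X H D) :=
  le_trans (fun s hs => mem_nrm_of_forall fun d hd =>
    hD.2 d hd s (S.mul_mem (S.mul_mem hs (hD.1 hd)) (S.inv_mem hs))) (F.normalizer_le H D)

theorem stronglyClosed_map_of_le (S : Sylow p H) {D : Subgroup H}
    (hD : Cfsg.IsStronglyClosed D (S : Subgroup H)) (Q : Subgroup H) [Q.Normal]
    (hQS : Q ≤ (S : Subgroup H)) :
    Cfsg.IsStronglyClosed (D.map (QuotientGroup.mk' Q))
      ((S : Subgroup H).map (QuotientGroup.mk' Q)) := by
  set f := QuotientGroup.mk' Q with hf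
  have hPc : ((S : Subgroup H).map f).comap f = (S : Subgroup H) := by
    rw [Subgroup.comap_map_eq, QuotientGroup.ker_mk', sup_eq_left.2 hQS]
  refine ⟨Subgroup.map_mono hD.1, ?_⟩
  rintro _ ⟨x, hx, rfl⟩ gb hg
  obtain ⟨g, rfl⟩ := QuotientGroup.mk'_surjective Q gb
  have hmem : g * x * g⁻¹ ∈ ((S : Subgroup H).map f).comap f := by
    rw [Subgroup.mem_comap, map_mul, map_mul, map_inv]; exact hg
  rw [hPc] at hmem
  exact ⟨_, hD.2 x hx g hmem, by rw [map_mul, map_mul, map_inv]⟩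

theorem stronglyClosed_map_of_coprime (S : Sylow p H) {D : Subgroup H}
    (hD : Cfsg.IsStronglyClosed D (S : Subgroup H)) (N : Subgroup H) [N.Normal] :
    Cfsg.IsStronglyClosed (D.map (QuotientGroup.mk' N))
      ((S : Subgroup H).map (QuotientGroup.mk' N)) := by
  set f := QuotientGroup.mk' N with hf
  refine ⟨Subgroup.map_mono hD.1, ?_⟩
  rintro _ ⟨x, hx, rfl⟩ gb hg
  obtain ⟨g, rfl⟩ := QuotientGroup.mk'_surjective N gb
  set y := g * x * g⁻¹ with hy
  have hPN : (S : Subgroup H) ≤ (S : Subgroup H) ⊔ N := le_sup_left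
  have hymem : y ∈ (S : Subgroup H) ⊔ N := by
    rw [← QuotientGroup.ker_mk' N, ← Subgroup.comap_map_eq, Subgroup.mem_comap, hy, map_mul,
      map_mul, map_inv]
    exact hg
  have hyp : IsPGroup p (Subgroup.zpowers y) := by
    have := (LAE65.isPGroup_zpowers_of_mem S.2 (hD.1 hx)).map (MulAut.conj g).toMonoidHom
    rwa [MonoidHom.map_zpowers] at this
  obtain ⟨a, ha, hle⟩ := LAE65.exists_conj_le_in (Subgroup.zpowers_le.2 hymem) hyp hPN S.2
    (LAE65.not_dvd_relIndex_of_le S hPN)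
  obtain ⟨v, hv, n, hn, rfl⟩ := Subgroup.mem_sup_of_normal_right.1 ha
  have h1 : v * n * y * (v * n)⁻¹ ∈ (S : Subgroup H) :=
    hle (LAE65.conj_mem_map (Subgroup.mem_zpowers y))
  have h2 : n * y * n⁻¹ ∈ (S : Subgroup H) := by
    have := mul_mem (mul_mem (inv_mem hv) h1) hv
    simpa [mul_assoc] using this
  have h3 : n * y * n⁻¹ ∈ D := by
    have := hD.2 x hx (n * g) (by simpa [hy, mul_assoc] using h2)
    simpa [hy, mul_assoc] using this
  refine ⟨_, h3, ?_⟩
  rw [map_mul, map_mul, map_inv, hy, map_mul, map_mul, map_inv,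
    show f n = 1 from (QuotientGroup.eq_one_iff n).2 hn, one_mul, inv_one, mul_one]

/-- Control inside a subgroup `M`, for a Sylow subgroup of the form `S ⊓ M`. -/
theorem fusion_in_subgroup {M T E : Subgroup H} (hT : IsSylowIn p T M)
    (hE : Cfsg.IsStronglyClosed (E.subgroupOf M) (T.subgroupOf M)) (hEM : E ≤ M)
    (hM : StrongCtlD F ↥M) {A : Set H} (hA : A ⊆ T) {g : H} (hg : g ∈ M)
    (hgA : img g A ⊆ T) :
    ∃ x ∈ M ⊓ nrm (F.X H E), ∀ a ∈ A, x * a * x⁻¹ = g * a * g⁻¹ := by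
  obtain ⟨P, hP⟩ := hT.exists_sylow
  have hPeq : (P : Subgroup ↥M) = T.subgroupOf M := by
    rw [← hP]; exact (Subgroup.comap_map_eq_self_of_injective M.subtype_injective _).symm
  obtain ⟨x, hx, he⟩ := hM P (E.subgroupOf M) (hPeq ▸ hE) {y : ↥M | (y : H) ∈ A} ⟨g, hg⟩
    (fun y hy => by rw [hPeq]; exact hA hy)
    (by rintro _ ⟨y, hy, rfl⟩; rw [hPeq]; exact hgA ⟨_, hy, rfl⟩)
  refine ⟨x, ⟨x.2, ?_⟩, fun a ha => congrArg Subtype.val (he ⟨a, hT.le (hA ha)⟩ ha)⟩
  have h1 : (x : H) ∈ nrm ((F.X ↥M (E.subgroupOf M)).map M.subtype) :=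
    Subgroup.le_normalizer_map M.subtype ⟨x, hx, rfl⟩
  rwa [F.map ↥M H M.subtype _ M.subtype_injective.injOn,
    Subgroup.map_subgroupOf_eq_of_le hEM] at h1

/-- A subgroup containing `S` passes its fusion on to `N(X D)`. -/
theorem fusion_of_subgroup (S : Sylow p H) {D : Subgroup H}
    (hD : Cfsg.IsStronglyClosed D (S : Subgroup H)) {M : Subgroup H}
    (hSM : (S : Subgroup H) ≤ M) (hM : StrongCtlD F ↥M) {A : Set H}
    (hA : A ⊆ (S : Subgroup H)) {g : H} (hg : g ∈ M) (hgA : img g A ⊆ (S : Subgroup H)) :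
    ∃ x ∈ nrm (F.X H D), ∀ a ∈ A, x * a * x⁻¹ = g * a * g⁻¹ := by
  obtain ⟨x, hx, he⟩ := fusion_in_subgroup F (sylow_isSylowIn S hSM) (E := D)
    ⟨fun y hy => hD.1 hy, fun y hy k hk => hD.2 (y : H) hy k hk⟩ (hD.1.trans hSM) hM hA hg hgA
  exact ⟨x, hx.2, he⟩

/-- Fusion lifts over a normal `p'`-subgroup. -/
theorem ctlAt_of_coprime_quotient (S : Sylow p H) {D : Subgroup H}
    (hD : Cfsg.IsStronglyClosed D (S : Subgroup H)) (K : Subgroup H) [K.Normal]
    (hK : (Nat.card ↥K).Coprime p)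
    (h : CtlAt F (S.mapSurjective (QuotientGroup.mk'_surjective K)) (D.map (QuotientGroup.mk' K))) :
    CtlAt F S D := by
  intro A g hA hgA
  set f := QuotientGroup.mk' K with hf
  have hinj := injOn_mk_of_coprime S.2 K hK
  let S' := S.mapSurjective (QuotientGroup.mk'_surjective K)
  obtain ⟨y, hy, he⟩ := h (f '' A) (f g) (Set.image_mono hA)
    (by
      rintro _ ⟨_, ⟨a, ha, rfl⟩, rfl⟩
      exact ⟨g * a * g⁻¹, hgA ⟨a, ha, rfl⟩, by rw [map_mul, map_mul, map_inv]⟩)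
  set U := F.X H D with hU
  rw [← F.map H (H ⧸ K) f D (hinj.mono hD.1),
    ← map_nrm_of_coprime (S.2.to_le ((F.le H D).trans hD.1)) K hK] at hy
  obtain ⟨n, hn, rfl⟩ := hy
  have hSN : (S : Subgroup H) ≤ nrm U := le_nrm_X F hD
  -- move `n A n⁻¹` into `S` by an element of `K`
  set M := ((S : Subgroup H) ⊔ K) ⊓ nrm U with hM
  have hnA : img n A ⊆ (M : Set H) := by
    rintro _ ⟨a, ha, rfl⟩
    refine ⟨?_, (nrm U).mul_mem ((nrm U).mul_mem hn (hSN (hA ha))) ((nrm U).inv_mem hn)⟩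
    have h1 : f (n * a * n⁻¹) = f (g * a * g⁻¹) := by
      rw [map_mul, map_mul, map_inv, map_mul, map_mul, map_inv]
      exact he (f a) ⟨a, ha, rfl⟩
    have h2 : (g * a * g⁻¹)⁻¹ * (n * a * n⁻¹) ∈ K := QuotientGroup.eq.1 h1.symm
    have := Subgroup.mul_mem_sup (hgA ⟨a, ha, rfl⟩ : g * a * g⁻¹ ∈ (S : Subgroup H)) h2
    rwa [mul_inv_cancel_left] at this
  have hp : IsPGroup p ↥(Subgroup.closure (img n A)) := by
    rw [closure_img]
    exact isPGroup_cnj (S.2.to_le ((Subgroup.closure_le _).2 hA))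
  obtain ⟨m, hm, hmS⟩ := (sylow_isSylowIn S (le_inf le_sup_left hSN : (S : Subgroup H) ≤ M)).exists_cnj_le
    hp ((Subgroup.closure_le _).2 hnA)
  obtain ⟨s, hs, k, hk, rfl⟩ := Subgroup.mem_sup_of_normal_right.1 hm.1
  have hkN : k ∈ nrm U := by
    simpa using (nrm U).mul_mem ((nrm U).inv_mem (hSN hs)) hm.2
  refine ⟨k * n, (nrm U).mul_mem hkN hn, fun a ha => ?_⟩
  refine hinj ?_ (hgA ⟨a, ha, rfl⟩) ?_
  · have h1 : (s * k) * (n * a * n⁻¹) * (s * k)⁻¹ ∈ (S : Subgroup H) :=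
      hmS (conj_mem_cnj.2 (Subgroup.subset_closure ⟨a, ha, rfl⟩))
    have h2 := (S : Subgroup H).mul_mem ((S : Subgroup H).mul_mem ((S : Subgroup H).inv_mem hs) h1) hs
    have e : s⁻¹ * (s * k * (n * a * n⁻¹) * (s * k)⁻¹) * s = k * n * a * (k * n)⁻¹ := by group
    rwa [e] at h2
  · have h1 := he (f a) ⟨a, ha, rfl⟩
    have hk1 : f k = 1 := (QuotientGroup.eq_one_iff k).2 hk
    rw [map_mul, map_mul, map_inv, map_mul, hk1, one_mul, h1, map_mul, map_mul, map_inv]

/-- Alperin: control in the normalizers of fully normalized subgroups suffices. -/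
theorem ctlAt_of_locals (S : Sylow p H) {D₀ : Subgroup H}
    (hD₀ : Cfsg.IsStronglyClosed D₀ (S : Subgroup H))
    (hloc : ∀ T : Subgroup H, T ≤ (S : Subgroup H) → T ≠ ⊥ → Fully p (S : Subgroup H) T →
      ∀ (P : Sylow p ↥(nrm T)), (P : Subgroup ↥(nrm T)).map (nrm T).subtype = (S : Subgroup H) ⊓ nrm T →
        CtlAt F P ((D₀ ⊓ nrm T).subgroupOf (nrm T))) :
    CtlAt F S D₀ := by
  classical
  intro A g hA hgA
  by_cases hb : D₀ = ⊥
  · refine ⟨g, ?_, fun _ _ => rfl⟩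
    refine F.normalizer_le H D₀ ?_
    rw [hb, Subgroup.normalizer_eq_top]
    trivial
  let DT : Subgroup H → Subgroup H := fun T =>
    Subgroup.closure {y | y ∈ T ∧ ∃ (k : H), ∃ d ∈ D₀, y = k * d * k⁻¹}
  let W : Subgroup H → Subgroup H := fun T => if DT T = ⊥ then T else F.X H (DT T)
  have hDTle : ∀ T, DT T ≤ T := fun T => (Subgroup.closure_le _).2 fun y hy => hy.1
  have hDTS : ∀ T, T ≤ (S : Subgroup H) → DT T = D₀ ⊓ T := by
    intro T hT
    refine le_antisymm ((Subgroup.closure_le _).2 ?_) fun y hy =>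
      Subgroup.subset_closure ⟨hy.2, 1, y, hy.1, by simp⟩
    rintro y ⟨hyT, k, d, hd, rfl⟩
    exact ⟨hD₀.2 d hd k (hT hyT), hyT⟩
  have hDTc : ∀ T (k : H), DT (T.map (MulAut.conj k).toMonoidHom) =
      (DT T).map (MulAut.conj k).toMonoidHom := by
    intro T k
    rw [MonoidHom.map_closure]
    refine congrArg Subgroup.closure (Set.ext fun y => ?_)
    constructor
    · rintro ⟨⟨t, ht, rfl⟩, l, d, hd, hl⟩
      refine ⟨t, ⟨ht, k⁻¹ * l, d, hd, ?_⟩, rfl⟩
      have hl' : k * t * k⁻¹ = l * d * l⁻¹ := hl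
      calc t = k⁻¹ * (k * t * k⁻¹) * k := by group
        _ = _ := by rw [hl']; group
    · rintro ⟨t, ⟨ht, l, d, hd, rfl⟩, rfl⟩
      exact ⟨⟨_, ht, rfl⟩, k * l, d, hd, by simp [mul_assoc]⟩
  have hWf : IsConjugacyFunctor p W := by
    intro P hP
    refine ⟨?_, fun hne => ?_, fun k => ?_⟩
    · show (if DT P = ⊥ then P else F.X H (DT P)) ≤ P
      split_ifs
      · exact le_rfl
      · exact (F.le H _).trans (hDTle P)
    · show (if DT P = ⊥ then P else F.X H (DT P)) ≠ ⊥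
      split_ifs with h
      · exact hne
      · exact F.ne_bot H _ (hP.to_le (hDTle P)) h
    · show (if DT (P.map _) = ⊥ then P.map _ else F.X H (DT (P.map _))) =
        (if DT P = ⊥ then P else F.X H (DT P)).map _
      rw [hDTc]
      by_cases h : DT P = ⊥
      · rw [if_pos h, if_pos (by rw [h, Subgroup.map_bot])]
      · rw [if_neg h, if_neg (fun h' => h
          ((Subgroup.map_eq_bot_iff_of_injective _ (MulAut.conj k).injective).1 h')),
          F.map H H (MulAut.conj k).toMonoidHom (DT P) (MulAut.conj k).injective.injOn]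
  have hWS : W (S : Subgroup H) = F.X H D₀ := by
    show (if DT S = ⊥ then (S : Subgroup H) else F.X H (DT S)) = _
    rw [hDTS _ le_rfl, inf_eq_left.2 hD₀.1, if_neg hb]
  have hfam : FamilyControlsStrongFusionIn p {W} (⊤ : Subgroup H) := by
    refine familyControlsStrongFusionIn_of_fully S (by rintro _ rfl; exact hWf) fun T hT hT0 hf => ?_
    refine familyControlsStrongFusionIn_iff.2 ⟨_, hf.isSylowIn S.2, fun B y hy hB hyB => ?_⟩
    obtain ⟨P, hP⟩ := (hf.isSylowIn S.2).exists_sylow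
    have hPmem : ∀ {z : ↥(nrm T)}, (z : H) ∈ (S : Subgroup H) ⊓ nrm T →
        z ∈ (P : Subgroup ↥(nrm T)) := by
      intro z hz
      rw [← hP] at hz
      obtain ⟨w, hw, he⟩ := hz
      rwa [← Subtype.ext he]
    obtain ⟨x, hx, he⟩ := hloc T hT hT0 hf P hP {z : ↥(nrm T) | (z : H) ∈ B} ⟨y, hy⟩
      (fun z hz => hPmem (hB hz))
      (by rintro _ ⟨z, hz, rfl⟩; exact hPmem (hyB ⟨_, hz, rfl⟩))
    have hne : D₀ ⊓ nrm T ≠ ⊥ := by
      haveI : (D₀.subgroupOf (S : Subgroup H)).Normal :=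
        ⟨fun d hd x => hD₀.2 (d : H) hd (x : H) (x * d * x⁻¹).2⟩
      have hne' : D₀.subgroupOf (S : Subgroup H) ≠ ⊥ := by
        rw [Ne, Subgroup.subgroupOf_eq_bot, disjoint_iff, inf_eq_left.2 hD₀.1]; exact hb
      obtain ⟨⟨z, hz⟩, hz1⟩ :=
        Subgroup.ne_bot_iff_exists_ne_one.1 (PGroup.inf_center_ne_bot S.2 hne')
      intro hbot
      refine hz1 (Subtype.ext (Subtype.ext (Subgroup.mem_bot.1 (hbot.le ⟨hz.1, ?_⟩))))
      refine mem_nrm_of_forall fun t ht => ?_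
      have hc : t * (z : H) = (z : H) * t :=
        congrArg Subtype.val (Subgroup.mem_center_iff.1 hz.2 ⟨t, hT ht⟩)
      rwa [← hc, mul_inv_cancel_right]
    have hWT : W ((S : Subgroup H) ⊓ nrm T) = F.X H (D₀ ⊓ nrm T) := by
      have e : D₀ ⊓ ((S : Subgroup H) ⊓ nrm T) = D₀ ⊓ nrm T := by
        rw [← inf_assoc, inf_eq_left.2 hD₀.1]
      show (if DT _ = ⊥ then _ else F.X H (DT _)) = _
      rw [hDTS _ inf_le_left, e, if_neg hne]
    have h1 : (x : H) ∈ nrm ((F.X ↥(nrm T) ((D₀ ⊓ nrm T).subgroupOf (nrm T))).map (nrm T).subtype) :=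
      Subgroup.le_normalizer_map _ ⟨x, hx, rfl⟩
    rw [F.map ↥(nrm T) H (nrm T).subtype _ (nrm T).subtype_injective.injOn,
      Subgroup.map_subgroupOf_eq_of_le inf_le_right, ← hWT] at h1
    have he' : ∀ a ∈ B, (x : H) * a * (x : H)⁻¹ = y * a * y⁻¹ := fun a ha =>
      congrArg Subtype.val (he ⟨a, (hB ha).2⟩ ha)
    refine Fus.congr (Fus.single ⟨_, rfl, rfl⟩ ⟨x.2, h1⟩ hB ?_) he'
    rwa [img_congr he']
  obtain ⟨x, hx, he⟩ := (FamilyControlsStrongFusionIn.controls (by rintro _ rfl; exact hWf) hfam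
    (isSylowIn_top S)).exists_single (Subgroup.mem_top g) hA hgA
  exact ⟨x, hWS ▸ hx.2, he⟩

/-- The reduction step, with the proper subgroups and quotients it really uses. -/
theorem strongCtlD_step' (hsub : ∀ M : Subgroup H, M ≠ ⊤ → ∀ S : Sylow p H,
      IsSylowIn p ((S : Subgroup H) ⊓ M) M →
      (S : Subgroup H) ⊓ Subgroup.centralizer ((S : Subgroup H) : Set H) ≤ M → StrongCtlD F ↥M)
    (hquot' : pPrimeCore p H ≠ ⊥ → StrongCtlD F (H ⧸ pPrimeCore p H))
    (hquot : pCore p H ≠ ⊥ → StrongCtlD F (H ⧸ pCore p H)) :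
    StrongCtlD F H ∨ Constr p H := by
  have hsubS : ∀ (M : Subgroup H) (S : Sylow p H), M ≠ ⊤ → (S : Subgroup H) ≤ M →
      StrongCtlD F ↥M := fun M S hM hSM => hsub M hM S
    (by rw [inf_eq_left.2 hSM]; exact sylow_isSylowIn S hSM) (inf_le_left.trans hSM)
  by_cases hK : pPrimeCore p H = ⊥
  swap
  · refine Or.inl fun S D hD => ctlAt_of_coprime_quotient F S hD _
      Thompson.card_pPrimeCore_coprime (hquot' hK _ _ ?_)
    exact stronglyClosed_map_of_coprime S hD _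
  by_cases hQ : pCore p H = ⊥
  · left
    intro S D hD
    refine ctlAt_of_locals F S hD fun T hT hT0 hf P hP => ?_
    have hne : nrm T ≠ ⊤ := fun htop => hT0 (by
      haveI : T.Normal := Subgroup.normalizer_eq_top_iff.1 htop
      exact le_bot_iff.1 (hQ ▸ Thompson.le_pCore ‹_› (S.2.to_le hT)))
    refine hsub _ hne S (hf.isSylowIn S.2) (fun z hz => mem_nrm_of_forall fun t ht => ?_) P _ ?_
    · rw [← Subgroup.mem_centralizer_iff.1 hz.2 t (hT ht), mul_inv_cancel_right]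
      exact ht
    have hPeq : (P : Subgroup ↥(nrm T)) = ((S : Subgroup H) ⊓ nrm T).subgroupOf (nrm T) := by
      rw [← hP]; exact (Subgroup.comap_map_eq_self_of_injective (nrm T).subtype_injective _).symm
    rw [hPeq]
    exact ⟨fun y hy => ⟨hD.1 hy.1, hy.2⟩, fun y hy k hk => ⟨hD.2 (y : H) hy.1 k hk.1, hk.2⟩⟩
  set Q := pCore p H with hQdef
  set C := Subgroup.centralizer (Q : Set H) with hC
  haveI : C.Normal := Subgroup.normal_centralizer
  by_cases hcon : ∃ S : Sylow p H, (S : Subgroup H) ⊓ C ≤ Q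
  · obtain ⟨S, hS⟩ := hcon
    exact Or.inr (constr_of_inf_centralizer_le hK S hS)
  push Not at hcon
  left
  intro S D₀ hD₀ A g hA hgA
  set P := (S : Subgroup H) ⊓ C with hPdef
  have hPsyl : IsSylowIn p P C :=
    isSylowIn_inf_of_normal (isSylowIn_top S) le_top (by rw [nrm_eq_top])
  have hNP : nrm P ≠ ⊤ := by
    intro htop
    haveI : P.Normal := Subgroup.normalizer_eq_top_iff.1 htop
    exact hcon S (Thompson.le_pCore ‹_› hPsyl.isPGroup)
  have hSN : (S : Subgroup H) ≤ nrm P := by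
    refine Subgroup.le_normalizer_iff.2 fun s hs x hx => ⟨?_, ?_⟩
    · exact (S : Subgroup H).mul_mem ((S : Subgroup H).mul_mem hs hx.1) ((S : Subgroup H).inv_mem hs)
    · exact (inferInstance : C.Normal).conj_mem x hx.2 s
  by_cases hSC : (S : Subgroup H) ⊔ C = ⊤
  swap
  · -- two proper subgroups containing `S`
    set M := (S : Subgroup H) ⊔ C with hM
    obtain ⟨c, hc, n, hn, rfl⟩ := exists_mul_of_frattini hPsyl (g := g)
      (by rw [nrm_eq_top]; exact Subgroup.mem_top _)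
    have hnA : img n A ⊆ ((M ⊓ nrm P : Subgroup H) : Set H) := by
      rintro _ ⟨a, ha, rfl⟩
      refine ⟨?_, (nrm P).mul_mem ((nrm P).mul_mem hn (hSN (hA ha))) ((nrm P).inv_mem hn)⟩
      have h1 : c * (n * a * n⁻¹) * c⁻¹ ∈ M := by
        have := (le_sup_left : (S : Subgroup H) ≤ M) (hgA ⟨a, ha, rfl⟩)
        simpa [mul_assoc] using this
      have hcM : c ∈ M := (le_sup_right : C ≤ M) hc
      simpa [mul_assoc] using M.mul_mem (M.mul_mem (M.inv_mem hcM) h1) hcM
    have hp : IsPGroup p ↥(Subgroup.closure (img n A)) := by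
      rw [closure_img]
      exact isPGroup_cnj (S.2.to_le ((Subgroup.closure_le _).2 hA))
    obtain ⟨m, hm, hmS⟩ := (sylow_isSylowIn S (le_inf le_sup_left hSN :
      (S : Subgroup H) ≤ M ⊓ nrm P)).exists_cnj_le hp ((Subgroup.closure_le _).2 hnA)
    have hmid : img (m * n) A ⊆ (S : Subgroup H) := by
      rw [← img_img]
      rintro _ ⟨b, hb, rfl⟩
      exact hmS (conj_mem_cnj.2 (Subgroup.subset_closure hb))
    obtain ⟨x₁, hx₁, he₁⟩ := fusion_of_subgroup F S hD₀ hSN (hsubS _ S hNP hSN) hA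
      ((nrm P).mul_mem hm.2 hn) hmid
    obtain ⟨x₂, hx₂, he₂⟩ := fusion_of_subgroup F S hD₀ (le_sup_left : (S : Subgroup H) ≤ M)
      (hsubS _ S hSC le_sup_left) (g := c * m⁻¹) hmid (M.mul_mem ((le_sup_right : C ≤ M) hc) (M.inv_mem hm.1))
      (by rwa [img_img, ← mul_assoc, inv_mul_cancel_right])
    refine ⟨x₂ * x₁, Subgroup.mul_mem _ hx₂ hx₁, fun a ha => ?_⟩
    calc x₂ * x₁ * a * (x₂ * x₁)⁻¹ = x₂ * (x₁ * a * x₁⁻¹) * x₂⁻¹ := by group
      _ = c * m⁻¹ * (m * n * a * (m * n)⁻¹) * (c * m⁻¹)⁻¹ := by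
        rw [he₁ a ha, he₂ _ ⟨a, ha, rfl⟩]
      _ = c * n * a * (c * n)⁻¹ := by group
  -- `H = S C(Q)`: use the quotient by `Q`
  set f := QuotientGroup.mk' Q with hf
  let S' := S.mapSurjective (QuotientGroup.mk'_surjective Q)
  by_cases hDQ : D₀ ≤ Q
  · refine ⟨g, ?_, fun _ _ => rfl⟩
    have hDn : D₀.Normal := ⟨fun d hd x => hD₀.2 d hd x
      (Thompson.pCore_le_sylow S ((inferInstance : (pCore p H).Normal).conj_mem d (hDQ hd) x))⟩
    exact F.normalizer_le H D₀ (by rw [Subgroup.normalizer_eq_top_iff.2 hDn]; trivial)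
  have hD' : Cfsg.IsStronglyClosed (D₀.map f) (S' : Subgroup (H ⧸ Q)) :=
    stronglyClosed_map_of_le S hD₀ Q (Thompson.pCore_le_sylow S)
  set U' := F.X (H ⧸ Q) (D₀.map f) with hU'
  set M := (nrm U').comap f with hMdef
  have hSM : (S : Subgroup H) ≤ M := fun s hs =>
    le_nrm_X F hD' ⟨s, hs, rfl⟩
  have hMne : M ≠ ⊤ := by
    intro htop
    have h1 : nrm U' = ⊤ := by
      rw [← Subgroup.map_comap_eq_self_of_surjective (QuotientGroup.mk'_surjective Q) (nrm U'),
        ← hMdef, htop, Subgroup.map_top_of_surjective f (QuotientGroup.mk'_surjective Q)]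
    haveI : U'.Normal := Subgroup.normalizer_eq_top_iff.1 h1
    have h2 : U'.comap f ≤ Q := Thompson.le_pCore inferInstance
      (IsPGroup.comap_of_ker_isPGroup (S'.2.to_le ((F.le _ _).trans hD'.1)) f
        (by rw [hf, QuotientGroup.ker_mk']; exact Thompson.isPGroup_pCore))
    have h3 : D₀.map f ≠ ⊥ := by
      rw [Ne, Subgroup.map_eq_bot_iff, hf, QuotientGroup.ker_mk']
      exact hDQ
    refine F.ne_bot _ _ (S'.2.to_le hD'.1) h3 ?_
    rw [← hU', eq_bot_iff]
    intro u hu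
    obtain ⟨v, rfl⟩ := QuotientGroup.mk'_surjective Q u
    exact (QuotientGroup.eq_one_iff v).2 (h2 hu)
  have hHC : ∀ h : H, ∃ i : ℕ, h ^ (p ^ i) ∈ C := by
    intro h
    have h1 : (QuotientGroup.mk' C) h ∈ ((S : Subgroup H)).map (QuotientGroup.mk' C) := by
      have h2 : (QuotientGroup.mk' C) h ∈ ((S : Subgroup H) ⊔ C).map (QuotientGroup.mk' C) :=
        Subgroup.mem_map_of_mem _ (hSC ▸ Subgroup.mem_top h)
      rwa [Subgroup.map_sup, (Subgroup.map_eq_bot_iff C).2 (QuotientGroup.ker_mk' C).ge, sup_bot_eq] at h2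
    obtain ⟨i, hi⟩ := (S.2.map (QuotientGroup.mk' C)) ⟨_, h1⟩
    refine ⟨i, (QuotientGroup.eq_one_iff _).1 ?_⟩
    have := congrArg Subtype.val hi
    simpa using this
  -- every step inside `N(U)`, `U ⊇ Q`, is realized in `M`
  suffices key : ∃ x ∈ M, ∀ a ∈ A, x * a * x⁻¹ = g * a * g⁻¹ by
    obtain ⟨x, hx, he⟩ := key
    obtain ⟨y, hy, he'⟩ := fusion_of_subgroup F S hD₀ hSM (hsubS _ S hMne hSM) hA hx (by rwa [img_congr he])
    exact ⟨y, hy, fun a ha => (he' a ha).trans (he a ha)⟩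
  have hfix : ∀ x : H, img x (Q : Set H) = (Q : Set H) := by
    intro x; rw [← coe_cnj, cnj_normal]
  have hQS : Q ≤ (S : Subgroup H) := Thompson.pCore_le_sylow S
  have hr : Reach {T | T ∈ fullyFamily p (S : Subgroup H) ∧ Q ≤ T} A g := by
    have hUA : A ∪ (Q : Set H) ⊆ (S : Subgroup H) := Set.union_subset hA hQS
    have hUA' : img g (A ∪ (Q : Set H)) ⊆ (S : Subgroup H) := by
      show _ '' _ ⊆ _
      rw [Set.image_union]
      exact Set.union_subset hgA (by rw [show _ '' _ = _ from hfix g]; exact hQS)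
    exact ((reach_fully S _ g hUA hUA').filter (fun B => (Q : Set H) ⊆ B)
      (fun B x hB => (hfix x).symm.subset.trans (img_mono hB))
      (Ψ := {T | T ∈ fullyFamily p (S : Subgroup H) ∧ Q ≤ T})
      (fun B T hT hBT hB => ⟨hT, hB.trans hBT⟩) Set.subset_union_right).mono Set.subset_union_left
  clear hA hgA
  induction hr with
  | one A => exact ⟨1, M.one_mem, fun a _ => rfl⟩
  | @cons A T x g hT hA hx _ ih =>
    obtain ⟨z, hz, hze⟩ := ih
    suffices hstep : ∃ w ∈ M, ∀ a ∈ A, w * a * w⁻¹ = x * a * x⁻¹ by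
      obtain ⟨w, hw, hwe⟩ := hstep
      refine ⟨z * w, M.mul_mem hz hw, fun a ha => ?_⟩
      calc z * w * a * (z * w)⁻¹ = z * (w * a * w⁻¹) * z⁻¹ := by group
        _ = z * (x * a * x⁻¹) * z⁻¹ := by rw [hwe a ha]
        _ = g * (x * a * x⁻¹) * g⁻¹ := hze _ ⟨a, ha, rfl⟩
        _ = g * x * a * (g * x)⁻¹ := by group
    obtain ⟨⟨hTS, hTf⟩, hQT⟩ := hT
    obtain ⟨y, hy, hye⟩ := hquot hQ S' _ hD' (f '' (T : Set H)) (f x) (Set.image_mono hTS)
      (by
        rintro _ ⟨_, ⟨a, ha, rfl⟩, rfl⟩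
        exact ⟨x * a * x⁻¹, hTS (conj_mem_of_nrm hx ha), by rw [map_mul, map_mul, map_inv]⟩)
    obtain ⟨n, rfl⟩ := QuotientGroup.mk'_surjective Q y
    have hnM : n ∈ M := hy
    -- `h = n⁻¹ x` centralizes `T / Q`
    set D := nrm T ⊓ (Subgroup.centralizer ((T.map f : Subgroup (H ⧸ Q)) : Set (H ⧸ Q))).comap f
      with hD
    have hcong : ∀ a ∈ T, f (n * a * n⁻¹) = f (x * a * x⁻¹) := fun a ha => by
      rw [map_mul, map_mul, map_inv, map_mul, map_mul, map_inv]
      exact hye (f a) ⟨a, ha, rfl⟩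
    have hnT : n ∈ nrm T := mem_nrm_of_forall fun a ha => by
      have h1 : (x * a * x⁻¹)⁻¹ * (n * a * n⁻¹) ∈ Q := QuotientGroup.eq.1 (hcong a ha).symm
      have := T.mul_mem (conj_mem_of_nrm hx ha) (hQT h1)
      rwa [mul_inv_cancel_left] at this
    have hhD : n⁻¹ * x ∈ D := by
      refine ⟨(nrm T).mul_mem ((nrm T).inv_mem hnT) hx, Subgroup.mem_centralizer_iff.2 ?_⟩
      rintro _ ⟨a, ha, rfl⟩
      have h1 := hcong a ha
      rw [map_mul, map_mul, map_mul, map_mul, map_inv, map_inv] at h1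
      rw [map_mul, map_inv]
      calc f a * ((f n)⁻¹ * f x) = (f n)⁻¹ * (f n * f a * (f n)⁻¹) * f x := by group
        _ = (f n)⁻¹ * (f x * f a * (f x)⁻¹) * f x := by rw [h1]
        _ = (f n)⁻¹ * f x * f a := by group
    have hDn : nrm T ≤ nrm D := by
      intro y hy
      refine mem_nrm_of_forall fun d hd => ⟨?_, Subgroup.mem_centralizer_iff.2 ?_⟩
      · exact (nrm T).mul_mem ((nrm T).mul_mem hy hd.1) ((nrm T).inv_mem hy)
      · rintro _ ⟨a, ha, rfl⟩
        have h1 := Subgroup.mem_centralizer_iff.1 hd.2 (f (y⁻¹ * a * y))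
          ⟨_, by simpa using conj_mem_of_nrm ((nrm T).inv_mem hy) ha, rfl⟩
        simp only [map_mul, map_inv] at h1 ⊢
        calc f a * (f y * f d * (f y)⁻¹) = f y * ((f y)⁻¹ * f a * f y * f d) * (f y)⁻¹ := by group
          _ = f y * (f d * ((f y)⁻¹ * f a * f y)) * (f y)⁻¹ := by rw [h1]
          _ = f y * f d * (f y)⁻¹ * f a := by group
    have hPD : IsSylowIn p (((S : Subgroup H) ⊓ nrm T) ⊓ D) D :=
      isSylowIn_inf_of_normal ((show Fully p (S : Subgroup H) T from hTf).isSylowIn S.2) inf_le_left hDn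
    -- `D / C(T)` is a `p`-group
    have hpow : ∀ d ∈ D, ∃ j : ℕ, d ^ (p ^ j) ∈ Subgroup.centralizer (T : Set H) := by
      intro d hd
      obtain ⟨i, hi⟩ := hHC d
      obtain ⟨l, hl⟩ := IsPGroup.iff_card.1 (Thompson.isPGroup_pCore : IsPGroup p ↥(pCore p H))
      refine ⟨i + l, Subgroup.mem_centralizer_iff.2 fun a ha => ?_⟩
      set z := d ^ (p ^ i) with hz'
      have hzD : z ∈ D := D.pow_mem hd _
      have hq : a⁻¹ * (z * a * z⁻¹) ∈ Q := by
        refine QuotientGroup.eq.1 ?_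
        have h1 := Subgroup.mem_centralizer_iff.1 hzD.2 (f a) ⟨a, ha, rfl⟩
        show f a = f (z * a * z⁻¹)
        rw [map_mul, map_mul, map_inv, ← h1, mul_inv_cancel_right]
      have hfixq : ∀ q ∈ Q, z * q * z⁻¹ = q := fun q hq' => by
        rw [← Subgroup.mem_centralizer_iff.1 hi q hq', mul_inv_cancel_right]
      have hiter : ∀ k : ℕ, z ^ k * a * (z ^ k)⁻¹ = a * (a⁻¹ * (z * a * z⁻¹)) ^ k := by
        intro k
        induction k with
        | zero => simp
        | succ k ihk =>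
          calc z ^ (k + 1) * a * (z ^ (k + 1))⁻¹ = z * (z ^ k * a * (z ^ k)⁻¹) * z⁻¹ := by
                rw [pow_succ']; group
            _ = (z * a * z⁻¹) * (z * (a⁻¹ * (z * a * z⁻¹)) ^ k * z⁻¹) := by rw [ihk]; group
            _ = a * (a⁻¹ * (z * a * z⁻¹)) ^ (k + 1) := by
                rw [hfixq _ (Q.pow_mem hq k), pow_succ', ← mul_assoc a, mul_inv_cancel_left]
      have h1 := hiter (Nat.card ↥Q)
      have h2 : (a⁻¹ * (z * a * z⁻¹)) ^ Nat.card ↥Q = 1 :=
        congrArg Subtype.val (pow_card_eq_one' (G := ↥Q) (x := ⟨_, hq⟩))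
      rw [h2, mul_one] at h1
      rw [pow_add, pow_mul, ← hz', ← hl]
      exact (mul_inv_eq_iff_eq_mul.1 h1).symm
    obtain ⟨PD, hPDeq⟩ := hPD.exists_sylow
    set CD := (Subgroup.centralizer (T : Set H)).subgroupOf D with hCD
    haveI : CD.Normal := by
      refine ⟨fun c hc d => Subgroup.mem_centralizer_iff.2 fun a ha => ?_⟩
      have h1 := Subgroup.mem_centralizer_iff.1 hc _
        (by simpa using conj_mem_of_nrm ((nrm T).inv_mem d.2.1) ha : (d : H)⁻¹ * a * d ∈ T)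
      simp only [Subgroup.coe_subtype] at h1
      show a * ((d : H) * c * (d : H)⁻¹) = (d : H) * c * (d : H)⁻¹ * a
      calc a * ((d : H) * c * (d : H)⁻¹) = d * (((d : H)⁻¹ * a * d) * c) * (d : H)⁻¹ := by group
        _ = d * (c * ((d : H)⁻¹ * a * d)) * (d : H)⁻¹ := by rw [h1]
        _ = _ := by group
    have hquotp : IsPGroup p (↥D ⧸ CD) := by
      intro q
      obtain ⟨d, rfl⟩ := QuotientGroup.mk'_surjective CD q
      obtain ⟨j, hj⟩ := hpow d d.2
      refine ⟨j, ?_⟩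
      rw [← map_pow]
      exact (QuotientGroup.eq_one_iff _).2 (show ((d ^ p ^ j : ↥D) : H) ∈ _ by simpa using hj)
    have htop : ((PD.mapSurjective (QuotientGroup.mk'_surjective CD) : Sylow p (↥D ⧸ CD)) :
        Subgroup (↥D ⧸ CD)) = ⊤ :=
      ((PD.mapSurjective (QuotientGroup.mk'_surjective CD)).is_maximal' (hquotp.to_subgroup ⊤) le_top).symm
    rw [Sylow.coe_mapSurjective] at htop
    obtain ⟨d, hd, hde⟩ : (QuotientGroup.mk' CD ⟨_, hhD⟩) ∈ (PD : Subgroup ↥D).map (QuotientGroup.mk' CD) :=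
      htop ▸ Subgroup.mem_top _
    have hdS : (d : H) ∈ (S : Subgroup H) := by
      have : (d : H) ∈ ((S : Subgroup H) ⊓ nrm T) ⊓ D := hPDeq ▸ ⟨d, hd, rfl⟩
      exact this.1.1
    have hc : (d : H)⁻¹ * (n⁻¹ * x) ∈ Subgroup.centralizer (T : Set H) :=
      (QuotientGroup.eq (s := CD) (a := d) (b := ⟨n⁻¹ * x, hhD⟩)).1 hde
    refine ⟨n * d, M.mul_mem hnM (hSM hdS), fun a ha => ?_⟩
    have h1 := Subgroup.mem_centralizer_iff.1 hc a (hA ha)
    calc n * (d : H) * a * (n * d)⁻¹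
        = n * d * (a * ((d : H)⁻¹ * (n⁻¹ * x))) * ((d : H)⁻¹ * (n⁻¹ * x))⁻¹ * (n * d)⁻¹ := by group
      _ = x * a * x⁻¹ := by rw [h1]; group

/-- The reduction step. -/
theorem strongCtlD_step (hsub : ∀ M : Subgroup H, M ≠ ⊤ → StrongCtlD F ↥M)
    (hquot : ∀ (N : Subgroup H) [N.Normal], N ≠ ⊥ → StrongCtlD F (H ⧸ N)) :
    StrongCtlD F H ∨ Constr p H :=
  strongCtlD_step' F (fun M hM _ _ _ => hsub M hM) (hquot _) (hquot _)

/-- A functor normal in all constrained sections controls strong fusion in all sections. -/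
theorem strongCtlD_of_constrained {G : Type u} [Group G] [Finite G]
    (hloc : ∀ (K : Type u) [Group K] [Finite K], IsSec G K → Constr p K →
      ∀ (T : Sylow p K) (D : Subgroup K), Cfsg.IsStronglyClosed D (T : Subgroup K) →
        (F.X K D).Normal)
    (K : Type u) [Group K] [Finite K] (hK : IsSec G K) : StrongCtlD F K := by
  suffices key : ∀ (n : ℕ) (K : Type u) [Group K] [Finite K], Nat.card K ≤ n → IsSec G K →
      StrongCtlD F K from key _ K le_rfl hK
  intro n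
  induction n using Nat.strong_induction_on with
  | _ n ih =>
    intro K _ _ hn hK
    have hsub : ∀ M : Subgroup K, M ≠ ⊤ → StrongCtlD F ↥M := fun M hM =>
      ih (Nat.card ↥M) (((Subgroup.card_le_card_group M).lt_of_ne fun he =>
        hM (Subgroup.eq_top_of_card_eq M he)).trans_le hn) ↥M le_rfl (hK.trans (isSec_subgroup M))
    have hquot : ∀ (N : Subgroup K) [N.Normal], N ≠ ⊥ → StrongCtlD F (K ⧸ N) := by
      intro N _ hN
      refine ih (Nat.card (K ⧸ N)) ?_ _ le_rfl (hK.trans (isSec_quotient N))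
      have h1 := Subgroup.card_eq_card_quotient_mul_card_subgroup N
      have h2 : 1 < Nat.card ↥N := (Subgroup.one_lt_card_iff_ne_bot N).2 hN
      have h3 : 0 < Nat.card (K ⧸ N) := Nat.card_pos
      calc Nat.card (K ⧸ N) < Nat.card (K ⧸ N) * Nat.card ↥N := lt_mul_of_one_lt_right h3 h2
        _ ≤ n := h1 ▸ hn
    refine (strongCtlD_step F hsub hquot).elim id fun hc S D hD A g _ _ => ⟨g, ?_, fun _ _ => rfl⟩
    haveI := hloc K hK hc S D hD
    rw [nrm_eq_top]; trivial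

/-- The statement form. -/
theorem controls_of_ctlAt {S : Sylow p H} {D : Subgroup H} (h : CtlAt F S D) (A : Set H)
    (hA : A ⊆ (S : Subgroup H)) :
    Cfsg.ControlsStrongFusionOf (nrm (F.X H D)) (S : Subgroup H) A :=
  ⟨hA, fun g hg => by
    obtain ⟨x, hx, he⟩ := h A g hA hg
    exact ⟨x, hx, fun a ha => (he a ha).symm⟩⟩

end Cfsg.Agent.LocalEvenD
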